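import Cfsg.Agent.H648.Dict
import Cfsg.Agent.H139.Cusp.Main

/-!
# S4536: descent from `GL_n(q)` to `SL_n(q)`: definitions

* `PPrime p ζ`: the linear character `ζ : G →* ℂˣ` has finite order prime to `p`;
* `FixIrr ζ χ`: `ζ χ = χ` (equivalently: `χ` vanishes off the kernel of `ζ`);
* `IsTw ζ x`: `x ∈ k[G]` (`k` the residue field of `M`) is `ζ`-equivariant;
* `tw ζ x`: the basic equivariant element supported on the class of `x` (meaningful if `C_G(x) ≤ ker ζ`);
* `Nz ζ B x`: `C_G(x) ≤ ker ζ` and `e_B * tw ζ x` is not nilpotent;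
* `prodBlk`: the outer product of two blocks, on a subgroup `H` which is the image of `X₁ × X₂`;
* `jj e`: the homomorphism `GL_k(K) × GL_m(F) → GL_n(F)` given by `K^k × F^m ≃ F^n`;
* `Chain p M α n B`: the block `B` of `GL_n(F)` can be reduced to a block of defect zero by splitting off
  cuspidal blocks of central defect of groups `GL_k(K)`, all of whose characters are fixed by `α ∘ det`.
-/

set_option autoImplicit false
set_option linter.unusedSectionVars false

open Cfsg Polynomial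
open scoped MatrixGroups

namespace Cfsg.Agent.H624.Sl

open Cfsg.Agent.H644 Cfsg.Agent.Blocks.Local Cfsg.Agent.H648.Dict

section

variable {G : Type*} [Group G]

/-- `ζ` has finite order prime to `p`. -/
def PPrime (p : ℕ) (ζ : G →* ℂˣ) : Prop := ∃ k : ℕ, 0 < k ∧ ¬ p ∣ k ∧ ∀ g, ζ g ^ k = 1

/-- `ζ χ = χ`. -/
def FixIrr (ζ : G →* ℂˣ) (χ : G → ℂ) : Prop := ∀ g, χ g ≠ 0 → ζ g = 1

variable {M : Ideal AlgInt} [M.IsPrime]

/-- `ζ`-equivariant elements of the group algebra over the residue field of `M`. -/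
def IsTw (ζ : G →* ℂˣ) (x : MonoidAlgebra (ResField M) G) : Prop :=
  ∀ h g : G, x.coeff (h * g * h⁻¹) = redC M (ζ h : ℂ) * x.coeff g

variable [Finite G]

open Classical in
/-- The basic `ζ`-equivariant element on the class of `x` (meaningful if `C_G(x) ≤ ker ζ`). -/
noncomputable def tw (M : Ideal AlgInt) [M.IsPrime] (ζ : G →* ℂˣ) (x : G) :
    MonoidAlgebra (ResField M) G :=
  mkA fun y => if h : ∃ g : G, g * x * g⁻¹ = y then redC M (ζ h.choose : ℂ) else 0

/-- `C_G(x) ≤ ker ζ` and `e_B * tw ζ x` is not nilpotent. -/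
def Nz (M : Ideal AlgInt) [M.IsPrime] (ζ : G →* ℂˣ) (B : Set (IrrCharacter G)) (x : G) : Prop :=
  Subgroup.centralizer ({x} : Set G) ≤ ζ.ker ∧ ¬ IsNilpotent (idem M B * tw M ζ x)

end

/-- The outer product of two blocks, on a subgroup `H` which is the image of `X₁ × X₂`. -/
def prodBlk {X₁ X₂ G : Type*} [Group X₁] [Group X₂] [Group G] (H : Subgroup G) (j : X₁ × X₂ →* G)
    (b₁ : Set (IrrCharacter X₁)) (b₂ : Set (IrrCharacter X₂)) : Set (IrrCharacter H) :=
  {χ | ∃ χ₁ ∈ b₁, ∃ χ₂ ∈ b₂, ∀ (x : X₁ × X₂) (h : H), j x = h →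
    (χ : H → ℂ) h = (χ₁ : X₁ → ℂ) x.1 * (χ₂ : X₂ → ℂ) x.2}

section Lin

universe u

/-- matrices and linear automorphisms -/
noncomputable def glE (F : Type u) [Field F] (n : ℕ) :
    GL (Fin n) F ≃* ((Fin n → F) ≃ₗ[F] (Fin n → F)) :=
  Matrix.GeneralLinearGroup.toLin.trans (LinearMap.GeneralLinearGroup.generalLinearEquiv F (Fin n → F))

variable {F : Type u} [Field F] {K : Type u} [Field K] [Algebra F K] {k m n : ℕ}

theorem glE_apply (A : GL (Fin n) F) (v : Fin n → F) : glE F n A v = A.1.mulVec v := rfl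

/-- restriction of scalars of automorphisms -/
def resA {V : Type*} [AddCommGroup V] [Module K V] [Module F V] [IsScalarTower F K V] :
    (V ≃ₗ[K] V) →* (V ≃ₗ[F] V) where
  toFun A := A.restrictScalars F
  map_one' := rfl
  map_mul' _ _ := rfl

/-- the direct sum of two automorphisms, transported by `e` -/
noncomputable def sumA (e : ((Fin k → K) × (Fin m → F)) ≃ₗ[F] (Fin n → F)) :
    ((Fin k → K) ≃ₗ[F] (Fin k → K)) × ((Fin m → F) ≃ₗ[F] (Fin m → F)) →*
      ((Fin n → F) ≃ₗ[F] (Fin n → F)) where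
  toFun x := (e.symm.trans (x.1.prodCongr x.2)).trans e
  map_one' := by
    ext1 v
    change e (e.symm v) = v
    exact e.apply_symm_apply v
  map_mul' x y := by
    ext1 v
    change e (x.1 (y.1 (e.symm v).1), x.2 (y.2 (e.symm v).2)) =
      e (x.1 (e.symm (e (y.1 (e.symm v).1, y.2 (e.symm v).2))).1,
        x.2 (e.symm (e (y.1 (e.symm v).1, y.2 (e.symm v).2))).2)
    rw [e.symm_apply_apply]

/-- the homomorphism `GL_k(K) × GL_m(F) → GL_n(F)` given by `e : K^k × F^m ≃ F^n` -/
noncomputable def jj (e : ((Fin k → K) × (Fin m → F)) ≃ₗ[F] (Fin n → F)) :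
    GL (Fin k) K × GL (Fin m) F →* GL (Fin n) F :=
  (glE F n).symm.toMonoidHom.comp ((sumA e).comp
    (MonoidHom.prodMap ((resA (F := F)).comp (glE K k).toMonoidHom) (glE F m).toMonoidHom))

theorem jj_mulVec (e : ((Fin k → K) × (Fin m → F)) ≃ₗ[F] (Fin n → F)) (A : GL (Fin k) K)
    (B : GL (Fin m) F) (v : Fin k → K) (w : Fin m → F) :
    (jj e (A, B)).1.mulVec (e (v, w)) = e (A.1.mulVec v, B.1.mulVec w) := by
  rw [← glE_apply]
  have h : glE F n (jj e (A, B)) = sumA e (resA (glE K k A), glE F m B) := by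
    rw [jj]
    exact (glE F n).apply_symm_apply _
  rw [h]
  change e ((glE K k A) (e.symm (e (v, w))).1, (glE F m B) (e.symm (e (v, w))).2) = _
  rw [e.symm_apply_apply]
  rfl

/-- The determinant twisted by a linear character. -/
noncomputable def dch (n : ℕ) (α : Fˣ →* ℂˣ) : GL (Fin n) F →* ℂˣ :=
  α.comp Matrix.GeneralLinearGroup.det

/-- The norm on units. -/
noncomputable def nrm (F K : Type u) [Field F] [Field K] [Algebra F K] : Kˣ →* Fˣ :=
  Units.map (Algebra.norm F : K →* F)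

/-- the scalar matrix -/
noncomputable def scl (k : ℕ) (z : Kˣ) : GL (Fin k) K :=
  Units.map (Matrix.scalar (Fin k)).toMonoidHom z

attribute [local instance] Cfsg.Agent.H139.Cusp.fintypeHom Cfsg.Agent.H139.Cusp.fintypeSub
  Cfsg.Agent.H139.Cusp.finite_quot

/-- `θ` is a cuspidal character of `GL_k(K)` given by the Möbius inversion of an additive function -/
def IsCusp [Finite K] (θ : GL (Fin k) K → ℂ) : Prop :=
  ∃ b : K[X] → ℂ, (∀ p q : K[X], p.Monic → q.Monic → b (p * q) = b p + b q) ∧ b (X - 1) = 1 ∧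
    ∀ g : GL (Fin k) K, θ g = (-1) ^ (k - 1) * Cfsg.Agent.H139.Cusp.kap b (Matrix.toLin' g.1) ⊤

/-- `Chain p M α n B`: the block `B` of `GL_n(F)` can be reduced to a block of defect zero by splitting off
cuspidal blocks of central defect; everything is fixed by `α`. -/
inductive Chain {F : Type u} [Field F] [Finite F] (p : ℕ) (M : Ideal AlgInt) (α : Fˣ →* ℂˣ) :
    (n : ℕ) → Set (IrrCharacter (GL (Fin n) F)) → Prop
  | zero {n : ℕ} (χ : IrrCharacter (GL (Fin n) F))
      (hd : (charDegree (χ : GL (Fin n) F → ℂ)).factorization p =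
        (Nat.card (GL (Fin n) F)).factorization p)
      (hf : FixIrr (dch n α) (χ : GL (Fin n) F → ℂ)) :
      Chain p M α n (blockOf M (χ : GL (Fin n) F → ℂ))
  | step {n m k : ℕ} (K : Type u) [Field K] [Finite K] [Algebra F K]
      (e : ((Fin k → K) × (Fin m → F)) ≃ₗ[F] (Fin n → F)) (z : Kˣ)
      (hz : ∃ a : ℕ, orderOf z = p ^ a) (hz1 : z ≠ 1) (hzK : Algebra.adjoin F {(z : K)} = ⊤)
      (hk : 0 < k) (hpk : ¬ p ∣ k)
      (θ : IrrCharacter (GL (Fin k) K)) (hθ : IsCusp (θ : GL (Fin k) K → ℂ))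
      (hfix : FixIrr (dch k (α.comp (nrm F K))) (θ : GL (Fin k) K → ℂ))
      (b₂ : Set (IrrCharacter (GL (Fin m) F))) (B : Set (IrrCharacter (GL (Fin n) F)))
      (hind : IsInducedBlock M (Subgroup.centralizer ({jj e (scl k z, 1)} : Set (GL (Fin n) F)))
        (prodBlk (Subgroup.centralizer ({jj e (scl k z, 1)} : Set (GL (Fin n) F))) (jj e)
          (blockOf M (θ : GL (Fin k) K → ℂ)) b₂) B)
      (h₂ : Chain p M α m b₂) : Chain p M α n B

/-- the dimension of the kernel of `g(x)` -/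
noncomputable def kd (x : GL (Fin n) F) (g : F[X]) : ℕ :=
  Module.finrank F (LinearMap.ker (aeval (Matrix.toLin' x.1) g))

/-- `x` is unipotent -/
def Uni (x : GL (Fin n) F) : Prop := (x.1 - 1) ^ n = 0

end Lin

end Cfsg.Agent.H624.Sl
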