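import Cfsg.Agent.H624.Sl.Defs

/-!
# Twisted central elements (W1 of S4536)
-/

set_option autoImplicit false
set_option linter.unusedSectionVars false

open Cfsg

namespace Cfsg.Agent.H624.Sl

open Cfsg.Agent.H644 Cfsg.Agent.Blocks.Local Cfsg.Agent.H648.Dict
open Cfsg.Agent.Blocks.Basic (isPBlock_nonempty isPBlock_mem_iff isPBlock_eq_of_mem
  isPBlock_eq_blockOf isPBlock_sameBlock isPBlock_mem_of_sameBlock isPBlock_blockOf
  mem_blockOf_self)

section

variable {G : Type*} [Group G] [Finite G] {p : ℕ} {M : Ideal AlgInt} [M.IsPrime]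

theorem isIntegral_val (ζ : G →* ℂˣ) (g : G) : IsIntegral ℤ ((ζ g : ℂˣ) : ℂ) := by
  have h : ((ζ g : ℂˣ) : ℂ) ^ (orderOf g) = 1 := by
    rw [← Units.val_pow_eq_pow_val, ← map_pow, pow_orderOf_eq_one, map_one, Units.val_one]
  exact IsIntegral.of_pow (orderOf_pos g) (h ▸ isIntegral_one)

theorem memLocalRing_val (ζ : G →* ℂˣ) (g : G) : MemLocalRing M ((ζ g : ℂˣ) : ℂ) :=
  memLocalRing_algInt (⟨_, isIntegral_val ζ g⟩ : AlgInt)

/-- the reduction of `ζ` -/
noncomputable def zr (M : Ideal AlgInt) [M.IsPrime] (ζ : G →* ℂˣ) : G →* ResField M where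
  toFun g := redC M (ζ g : ℂ)
  map_one' := by rw [map_one, Units.val_one, redC_one]
  map_mul' g h := by
    rw [map_mul, Units.val_mul, redC_mul (memLocalRing_val ζ g) (memLocalRing_val ζ h)]

theorem zr_apply (ζ : G →* ℂˣ) (g : G) : zr M ζ g = redC M (ζ g : ℂ) := rfl

theorem zr_ne_zero (ζ : G →* ℂˣ) (g : G) : zr M ζ g ≠ 0 := by
  intro h
  have h1 : zr M ζ g * zr M ζ g⁻¹ = 1 := by rw [← map_mul, mul_inv_cancel, map_one]
  rw [h, zero_mul] at h1
  exact zero_ne_one h1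

theorem zr_inv (ζ : G →* ℂˣ) (g : G) : zr M ζ g⁻¹ = (zr M ζ g)⁻¹ := by
  refine eq_inv_of_mul_eq_one_left ?_
  rw [← map_mul, inv_mul_cancel, map_one]

theorem natCast_ne_zero (hM : IsPModular p M) {k : ℕ} (hk : ¬ p ∣ k) : (k : ResField M) ≠ 0 := by
  have hp := hM.1
  intro h
  have hpM : ((p : ℕ) : ResField M) = 0 := by
    rw [← redC_natCast, redC_eq_zero_iff (memLocalRing_natCast p)]
    exact memLocalIdeal_of_mem (M := M) (a := (p : AlgInt)) hM.2.2
  have hco : Nat.Coprime p k := (Nat.Prime.coprime_iff_not_dvd hp).2 hk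
  have h1 := Nat.gcd_eq_gcd_ab p k
  rw [hco] at h1
  have h2 := congrArg (fun z : ℤ => (z : ResField M)) h1
  simp only [Nat.cast_one, Int.cast_one, Int.cast_add, Int.cast_mul, Int.cast_natCast, h, hpM,
    zero_mul, add_zero] at h2
  exact one_ne_zero h2

theorem zr_eq_one_iff (hM : IsPModular p M) {ζ : G →* ℂˣ} (hζ : PPrime p ζ) {g : G} :
    zr M ζ g = 1 ↔ ζ g = 1 := by
  constructor
  · intro h
    obtain ⟨k, hk, hpk, hζk⟩ := hζ
    by_contra hne
    have h1 : ∑ i ∈ Finset.range k, ((ζ g : ℂˣ) : ℂ) ^ i = 0 := by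
      have h2 := geom_sum_mul ((ζ g : ℂˣ) : ℂ) k
      rw [← Units.val_pow_eq_pow_val, hζk g, Units.val_one, sub_self] at h2
      rcases mul_eq_zero.1 h2 with h3 | h3
      · exact h3
      · exact absurd (Units.ext (sub_eq_zero.1 h3)) hne
    have h2 := congrArg (redC M) h1
    rw [redC_zero, redC_sum (fun i _ => memLocalRing_pow (memLocalRing_val ζ g) i)] at h2
    refine natCast_ne_zero hM hpk ?_
    rw [← h2]
    rw [Finset.sum_congr rfl (fun i _ => by
      rw [redC_pow (memLocalRing_val ζ g), ← zr_apply, h, one_pow])]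
    simp
  · intro h
    rw [zr_apply, h, Units.val_one, redC_one]

theorem isTw_iff {ζ : G →* ℂˣ} {x : MonoidAlgebra (ResField M) G} :
    IsTw ζ x ↔ ∀ h g : G, x.coeff (h * g * h⁻¹) = zr M ζ h * x.coeff g := Iff.rfl

theorem isTw_iff_cj {ζ : G →* ℂˣ} {x : MonoidAlgebra (ResField M) G} :
    IsTw ζ x ↔ ∀ h : G, cj h x = zr M ζ h⁻¹ • x := by
  constructor
  · intro hx h
    refine ext_coeff fun g => ?_
    rw [coeff_cj, MonoidAlgebra.coeff_smul, Finsupp.smul_apply, smul_eq_mul]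
    have h1 := hx h⁻¹ g
    rw [inv_inv] at h1
    exact h1
  · intro hx h g
    have h1 := congrArg (fun z => z.coeff g) (hx h⁻¹)
    simp only [coeff_cj, MonoidAlgebra.coeff_smul, Finsupp.smul_apply, smul_eq_mul, inv_inv] at h1
    rw [h1]
    rfl

/-- the support of equivariant elements -/
theorem IsTw.centralizer_le (hM : IsPModular p M) {ζ : G →* ℂˣ} (hζ : PPrime p ζ)
    {x : MonoidAlgebra (ResField M) G} (hx : IsTw ζ x) {g : G} (hg : x.coeff g ≠ 0) :
    Subgroup.centralizer ({g} : Set G) ≤ ζ.ker := by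
  intro h hh
  have h1 := hx h g
  have h2 : h * g * h⁻¹ = g := by
    rw [Subgroup.mem_centralizer_singleton_iff.1 hh, mul_inv_cancel_right]
  rw [h2] at h1
  rw [MonoidHom.mem_ker, ← zr_eq_one_iff hM hζ]
  have h3 : (zr M ζ h - 1) * x.coeff g = 0 := by
    rw [sub_mul, one_mul, sub_eq_zero, zr_apply, ← h1]
  rcases mul_eq_zero.1 h3 with h4 | h4
  · exact sub_eq_zero.1 h4
  · exact absurd h4 hg

theorem IsTw.supp (hM : IsPModular p M) {ζ : G →* ℂˣ} (hζ : PPrime p ζ)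
    {x : MonoidAlgebra (ResField M) G} (hx : IsTw ζ x) {g : G} (hg : g ∉ ζ.ker) : x.coeff g = 0 := by
  by_contra h
  exact hg (hx.centralizer_le hM hζ h (Subgroup.mem_centralizer_singleton_iff.2 rfl))

theorem IsTw.smul {ζ : G →* ℂˣ} {x : MonoidAlgebra (ResField M) G} (hx : IsTw ζ x)
    (c : ResField M) : IsTw ζ (c • x) := by
  intro h g
  rw [MonoidAlgebra.coeff_smul, Finsupp.smul_apply, Finsupp.smul_apply, hx h g, smul_eq_mul,
    smul_eq_mul]
  ring

theorem isTw_zero (ζ : G →* ℂˣ) : IsTw ζ (0 : MonoidAlgebra (ResField M) G) := by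
  intro h g
  simp

/-- an equivariant element commutes with every element supported on the kernel -/
theorem IsTw.commute {ζ : G →* ℂˣ} {x : MonoidAlgebra (ResField M) G} (hx : IsTw ζ x)
    {y : MonoidAlgebra (ResField M) G} (hy : ∀ g, g ∉ ζ.ker → y.coeff g = 0) : x * y = y * x := by
  have := Fintype.ofFinite G
  refine ext_coeff fun g => ?_
  rw [coeff_mul_eq_sum, coeff_mul_eq_sum]
  refine Fintype.sum_equiv ((Equiv.inv G).trans (Equiv.mulRight g)) _ _ fun a => ?_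
  change x.coeff a * y.coeff (a⁻¹ * g) = y.coeff (a⁻¹ * g) * x.coeff ((a⁻¹ * g)⁻¹ * g)
  by_cases h : a⁻¹ * g ∈ ζ.ker
  · have h1 := hx (a⁻¹ * g)⁻¹ a
    have h2 : redC M (ζ (a⁻¹ * g)⁻¹ : ℂ) = 1 := by
      rw [map_inv, MonoidHom.mem_ker.1 h, inv_one, Units.val_one, redC_one]
    rw [h2, one_mul] at h1
    have h3 : (a⁻¹ * g)⁻¹ * a * (a⁻¹ * g)⁻¹⁻¹ = (a⁻¹ * g)⁻¹ * g := by group
    rw [← h3, h1, mul_comm]
  · rw [hy _ h, mul_zero, zero_mul]

theorem IsTw.mul_cls {ζ : G →* ℂˣ} {x y : MonoidAlgebra (ResField M) G} (hx : IsTw ζ x)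
    (hy : IsCls y) : IsTw ζ (y * x) := by
  rw [isTw_iff_cj] at hx ⊢
  intro h
  rw [map_mul, cj_of_isCls hy, hx, Algebra.mul_smul_comm]

theorem IsTw.pow_cj {ζ : G →* ℂˣ} {x : MonoidAlgebra (ResField M) G} (hx : IsTw ζ x) (n : ℕ)
    (h : G) : cj h (x ^ n) = (zr M ζ h⁻¹) ^ n • x ^ n := by
  rw [isTw_iff_cj] at hx
  rw [map_pow, hx, smul_pow]

/-- some power of an equivariant element is central -/
theorem IsTw.isCls_pow {ζ : G →* ℂˣ} {x : MonoidAlgebra (ResField M) G} (hx : IsTw ζ x) {n : ℕ}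
    (hn : ∀ g, ζ g ^ n = 1) : IsCls (x ^ n) := by
  rw [isCls_iff_isInv_top, isInv_iff_cj]
  intro h _
  rw [hx.pow_cj, zr_apply, ← redC_pow (memLocalRing_val ζ _), ← Units.val_pow_eq_pow_val, hn,
    Units.val_one, redC_one, one_smul]

open Classical in
theorem coeff_tw {ζ : G →* ℂˣ} {x : G}
    (hx : Subgroup.centralizer ({x} : Set G) ≤ ζ.ker) (g : G) :
    (tw M ζ x).coeff (g * x * g⁻¹) = zr M ζ g := by
  have h : ∃ g' : G, g' * x * g'⁻¹ = g * x * g⁻¹ := ⟨g, rfl⟩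
  rw [tw, coeff_mkA, dif_pos h, ← zr_apply]
  have h1 := h.choose_spec
  have h2 : g⁻¹ * h.choose ∈ ζ.ker := by
    apply hx
    rw [Subgroup.mem_centralizer_singleton_iff]
    calc g⁻¹ * h.choose * x = g⁻¹ * (h.choose * x * h.choose⁻¹) * h.choose := by group
      _ = g⁻¹ * (g * x * g⁻¹) * h.choose := by rw [h1]
      _ = x * (g⁻¹ * h.choose) := by group
  have h3 : ζ h.choose = ζ g := by
    rw [MonoidHom.mem_ker, map_mul, map_inv, inv_mul_eq_one] at h2
    exact h2.symm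
  rw [zr_apply, zr_apply, h3]

theorem coeff_tw_of_not {ζ : G →* ℂˣ} {x y : G} (h : ¬ ∃ g : G, g * x * g⁻¹ = y) :
    (tw M ζ x).coeff y = 0 := by
  rw [tw, coeff_mkA, dif_neg h]

/-- W1a -/
theorem isTw_tw (hM : IsPModular p M) {ζ : G →* ℂˣ} {x : G}
    (hx : Subgroup.centralizer ({x} : Set G) ≤ ζ.ker) : IsTw (M := M) ζ (tw M ζ x) := by
  intro h g
  by_cases hg : ∃ g' : G, g' * x * g'⁻¹ = g
  · obtain ⟨g', rfl⟩ := hg
    have h1 : h * (g' * x * g'⁻¹) * h⁻¹ = (h * g') * x * (h * g')⁻¹ := by group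
    rw [h1, coeff_tw hx, coeff_tw hx, map_mul, zr_apply]
  · rw [coeff_tw_of_not hg, coeff_tw_of_not, mul_zero]
    rintro ⟨g', hg'⟩
    refine hg ⟨h⁻¹ * g', ?_⟩
    calc h⁻¹ * g' * x * (h⁻¹ * g')⁻¹ = h⁻¹ * (g' * x * g'⁻¹) * h := by group
      _ = g := by rw [hg']; group

theorem centralizer_conj_le {ζ : G →* ℂˣ} {x : G}
    (hx : Subgroup.centralizer ({x} : Set G) ≤ ζ.ker) (g : G) :
    Subgroup.centralizer ({g * x * g⁻¹} : Set G) ≤ ζ.ker := by
  intro h hh
  rw [Subgroup.mem_centralizer_singleton_iff] at hh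
  have h1 : g⁻¹ * h * g ∈ ζ.ker := by
    apply hx
    rw [Subgroup.mem_centralizer_singleton_iff]
    calc g⁻¹ * h * g * x = g⁻¹ * (h * (g * x * g⁻¹)) * g := by group
      _ = g⁻¹ * (g * x * g⁻¹ * h) * g := by rw [hh]
      _ = x * (g⁻¹ * h * g) := by group
  rw [MonoidHom.mem_ker, map_mul, map_mul, map_inv] at h1
  rw [MonoidHom.mem_ker]
  calc ζ h = (ζ g)⁻¹ * ζ h * ζ g := by rw [mul_comm (ζ g)⁻¹, mul_assoc, inv_mul_cancel, mul_one]
    _ = 1 := h1

/-- the basic elements of conjugate elements -/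
theorem tw_conj (hM : IsPModular p M) {ζ : G →* ℂˣ} {x : G}
    (hx : Subgroup.centralizer ({x} : Set G) ≤ ζ.ker) (g : G) :
    tw M ζ (g * x * g⁻¹) = (zr M ζ g)⁻¹ • tw M ζ x := by
  refine ext_coeff fun y => ?_
  rw [MonoidAlgebra.coeff_smul, Finsupp.smul_apply, smul_eq_mul]
  by_cases hy : ∃ g' : G, g' * x * g'⁻¹ = y
  · obtain ⟨g', rfl⟩ := hy
    have h1 : g' * x * g'⁻¹ = (g' * g⁻¹) * (g * x * g⁻¹) * (g' * g⁻¹)⁻¹ := by group
    rw [coeff_tw hx]
    rw [h1, coeff_tw (centralizer_conj_le hx g), map_mul, zr_inv, mul_comm]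
  · rw [coeff_tw_of_not hy, coeff_tw_of_not, mul_zero]
    rintro ⟨g', hg'⟩
    refine hy ⟨g' * g, ?_⟩
    rw [← hg']
    group

theorem isNilpotent_smul_iff' {A : Type*} [Ring A] [Algebra (ResField M) A] {c : ResField M}
    (hc : c ≠ 0) (x : A) : IsNilpotent (c • x) ↔ IsNilpotent x := by
  constructor
  · rintro ⟨n, hn⟩
    refine ⟨n, ?_⟩
    rw [smul_pow] at hn
    exact (smul_eq_zero.1 hn).resolve_left (pow_ne_zero n hc)
  · rintro ⟨n, hn⟩
    exact ⟨n, by rw [smul_pow, hn, smul_zero]⟩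

/-- W1b -/
theorem nz_conj (hM : IsPModular p M) {ζ : G →* ℂˣ} {B : Set (IrrCharacter G)}
    {x : G} (h : Nz M ζ B x) (g : G) : Nz M ζ B (g * x * g⁻¹) := by
  refine ⟨centralizer_conj_le h.1 g, ?_⟩
  rw [tw_conj hM h.1, Algebra.mul_smul_comm, isNilpotent_smul_iff' (inv_ne_zero (zr_ne_zero ζ g))]
  exact h.2

theorem nz_of_isConj (hM : IsPModular p M) {ζ : G →* ℂˣ} {B : Set (IrrCharacter G)}
    {x y : G} (h : Nz M ζ B x) (hxy : IsConj x y) : Nz M ζ B y := by
  obtain ⟨g, rfl⟩ := isConj_iff.1 hxy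
  exact nz_conj hM h g

/-- an equivariant element is a linear combination of basic elements -/
theorem eq_sum_tw (hM : IsPModular p M) {ζ : G →* ℂˣ} (hζ : PPrime p ζ)
    [Fintype (ConjClasses G)] {z : MonoidAlgebra (ResField M) G} (hz : IsTw ζ z) :
    z = ∑ c : ConjClasses G, z.coeff (crep c) • tw M ζ (crep c) := by
  classical
  refine ext_coeff fun y => ?_
  have h1 : (∑ c : ConjClasses G, z.coeff (crep c) • tw M ζ (crep c)).coeff y =
      ∑ c : ConjClasses G, z.coeff (crep c) * (tw M ζ (crep c)).coeff y := by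
    rw [MonoidAlgebra.coeff_sum, Finsupp.finsetSum_apply]
    rfl
  rw [h1, Finset.sum_eq_single (ConjClasses.mk y)]
  · obtain ⟨g, hg⟩ := isConj_iff.1 (isConj_crep y)
    by_cases h0 : z.coeff (crep (ConjClasses.mk y)) = 0
    · rw [h0, zero_mul]
      have := hz g (crep (ConjClasses.mk y))
      rw [h0, mul_zero, hg] at this
      exact this
    · have h2 := coeff_tw (M := M) (hz.centralizer_le hM hζ h0) g
      rw [hg] at h2
      rw [h2, mul_comm, zr_apply, ← hz g, hg]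
  · intro c _ hc
    rw [coeff_tw_of_not, mul_zero]
    rintro ⟨g, hg⟩
    apply hc
    rw [← mk_crep c]
    exact ConjClasses.mk_eq_mk_iff_isConj.2 (isConj_iff.2 ⟨g, hg⟩)
  · intro h
    exact absurd (Finset.mem_univ _) h

/-- a sum of commuting nilpotent elements -/
theorem isNilpotent_sum' {A ι : Type*} [Ring A] (s : Finset ι) (f : ι → A)
    (hc : ∀ i ∈ s, ∀ j ∈ s, Commute (f i) (f j)) (h : ∀ i ∈ s, IsNilpotent (f i)) :
    IsNilpotent (∑ i ∈ s, f i) := by
  classical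
  induction s using Finset.induction_on with
  | empty => rw [Finset.sum_empty]; exact IsNilpotent.zero
  | insert a s ha ih =>
    rw [Finset.sum_insert ha]
    refine Commute.isNilpotent_add ?_ (h a (Finset.mem_insert_self a s))
      (ih (fun i hi j hj => hc i (Finset.mem_insert_of_mem hi) j (Finset.mem_insert_of_mem hj))
        fun i hi => h i (Finset.mem_insert_of_mem hi))
    exact Commute.sum_right _ _ _ fun i hi =>
      hc a (Finset.mem_insert_self a s) i (Finset.mem_insert_of_mem hi)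

theorem IsTw.commute_mul (hM : IsPModular p M) {ζ : G →* ℂˣ} (hζ : PPrime p ζ)
    {x y e : MonoidAlgebra (ResField M) G} (he : IsCls e) (hx : IsTw ζ x) (hy : IsTw ζ y) :
    Commute (e * x) (e * y) := by
  have h1 : x * y = y * x := hx.commute fun g hg => hy.supp hM hζ hg
  change e * x * (e * y) = e * y * (e * x)
  have h2 : x * e = e * x := (isCls_comm he x).symm
  have h3 : y * e = e * y := (isCls_comm he y).symm
  rw [mul_assoc, ← mul_assoc x e y, h2, mul_assoc e x y, h1, mul_assoc e y, ← mul_assoc y e x, h3,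
    mul_assoc e y x]

/-- W1c: `z` is a linear combination of commuting elements `tw ζ x`. -/
theorem exists_nz (hM : IsPModular p M) {ζ : G →* ℂˣ} (hζ : PPrime p ζ) {B : Set (IrrCharacter G)}
    {z : MonoidAlgebra (ResField M) G} (hz : IsTw ζ z)
    (hn : ¬ IsNilpotent (idem M B * z)) : ∃ x : G, Nz M ζ B x := by
  classical
  have := Fintype.ofFinite (ConjClasses G)
  by_contra hcon
  apply hn
  rw [eq_sum_tw hM hζ hz, Finset.mul_sum]
  have key : ∀ c : ConjClasses G, IsTw ζ (z.coeff (crep c) • tw M ζ (crep c)) := by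
    intro c
    by_cases h0 : z.coeff (crep c) = 0
    · rw [h0, zero_smul]
      exact isTw_zero ζ
    · exact (isTw_tw hM (hz.centralizer_le hM hζ h0)).smul _
  refine isNilpotent_sum' _ _ (fun c _ c' _ =>
    IsTw.commute_mul hM hζ (isCls_idem B) (key c) (key c')) fun c _ => ?_
  by_cases h0 : z.coeff (crep c) = 0
  · rw [h0, zero_smul, mul_zero]
    exact IsNilpotent.zero
  · rw [Algebra.mul_smul_comm, isNilpotent_smul_iff' h0]
    by_contra h1
    exact hcon ⟨_, hz.centralizer_le hM hζ h0, h1⟩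

theorem isNilpotent_of_mul_cls {e x : MonoidAlgebra (ResField M) G} (he : IsCls e)
    (h : IsNilpotent x) : IsNilpotent (e * x) := by
  obtain ⟨n, hn⟩ := h
  have hc : Commute e x := isCls_comm he x
  exact ⟨n, by rw [hc.mul_pow, hn, mul_zero]⟩

theorem lam_res_cjE {N : Subgroup G} [N.Normal] {ζ : G →* ℂˣ} {z : MonoidAlgebra (ResField M) G}
    (hN : N ≤ ζ.ker) (hz : IsTw ζ z) (θ : IrrCharacter N) (g : G) :
    lam M (irrMap (cjE g N N (mem_conj_iff N g)) θ : N → ℂ) (res N z) =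
      zr M ζ g * lam M (θ : N → ℂ) (res N z) := by
  have hcls : IsCls (res N z) := by
    refine isCls_res fun u hu y => ?_
    rw [hz u y, MonoidHom.mem_ker.1 (hN hu), Units.val_one, redC_one, one_mul]
  have h1 := lam_irrMap (M := M) (cjE g N N (mem_conj_iff N g)) θ (x := zr M ζ g • res N z)
    (x' := res N z) (isCls_smul hcls _) (by
      intro y
      rw [coeff_res, coe_cjE, MonoidAlgebra.coeff_smul, Finsupp.smul_apply, coeff_res, hz g y]
      rfl)
  rw [h1, map_smul, smul_eq_mul]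

/-- the value of `lam` at an equivariant element is nonzero on all the blocks of `ker ζ` below `B` -/
theorem lam_ne_zero (hM : IsPModular p M) {ζ : G →* ℂˣ} (hζ : PPrime p ζ)
    {B : Set (IrrCharacter G)} (hB : IsPBlock M B) {z : MonoidAlgebra (ResField M) G} (hz : IsTw ζ z)
    (h : ¬ IsNilpotent (idem M B * z)) [Fintype ζ.ker] {c : Set (IrrCharacter ζ.ker)}
    (hc : IsPBlock M c) (hcov : Covers ζ.ker B c) {θ : IrrCharacter ζ.ker} (hθ : θ ∈ c) :
    lam M (θ : ζ.ker → ℂ) (res ζ.ker z) ≠ 0 := by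
  classical
  have : Fact p.Prime := ⟨hM.1⟩
  intro h0
  apply h
  have hUB := isUnion_of_isPBlock hB
  have hUo := isUnion_orb ζ.ker hc
  obtain ⟨χ, hχ⟩ := isPBlock_nonempty hB
  have hθorb : θ ∈ orb ζ.ker c := ⟨1, by rw [conjN_one]; exact hθ⟩
  have h1 : lam M (χ : G → ℂ) (emb ζ.ker (idem M (orb ζ.ker c))) = 1 := by
    rw [(covers_iff_lam ζ.ker hM hB hc).1 hcov χ hχ θ hθ _ (isCls_emb_idem_orb ζ.ker c)
      fun g hg => emb_idem_supp ζ.ker _ hg, res_emb, lam_idem_of_mem hM hUo hθorb]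
  have h2 : emb ζ.ker (idem M (orb ζ.ker c)) * idem M B = idem M B := by
    refine mul_idem_of_lam_eq_one hM (isCls_emb_idem_orb ζ.ker c) ?_ hUB fun χ' hχ' => ?_
    · rw [← map_mul, idem_mul_self hM hUo]
    · rw [lam_eq_of_mem hB hχ' hχ, h1]
  have hcls : IsCls (res ζ.ker z) := by
    refine isCls_res fun u hu y => ?_
    rw [hz u y, MonoidHom.mem_ker.1 hu, Units.val_one, redC_one, one_mul]
  have h3 : IsNilpotent (idem M (orb ζ.ker c) * res ζ.ker z) := by
    refine isNilpotent_of_lam (isCls_mul (isCls_idem _) hcls) fun ε => ?_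
    rw [lam_mul ε (isCls_idem _) hcls]
    by_cases hε : ε ∈ orb ζ.ker c
    · obtain ⟨g, ε', hε', rfl⟩ := hε
      rw [lam_res_cjE le_rfl hz, lam_eq_of_mem hc hε' hθ, h0, mul_zero, mul_zero]
    · rw [lam_idem_of_notMem hM hUo hε, zero_mul]
  have h4 : emb ζ.ker (res ζ.ker z) = z := by
    refine ext_coeff fun g => ?_
    by_cases hg : g ∈ ζ.ker
    · rw [coeff_emb_of_mem _ hg, coeff_res]
    · rw [coeff_emb_of_notMem _ hg, hz.supp hM hζ hg]
  obtain ⟨n, hn⟩ := h3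
  have h5 : IsNilpotent (emb ζ.ker (idem M (orb ζ.ker c)) * z) := by
    refine ⟨n, ?_⟩
    rw [← h4, ← map_mul, ← map_pow, hn, map_zero]
  rw [← h2, isCls_comm (isCls_emb_idem_orb ζ.ker c) (idem M B), mul_assoc]
  exact isNilpotent_of_mul_cls (isCls_idem B) h5

/-- W1d: the stabiliser of a block of `ker ζ` below `B` is `ker ζ`. -/
theorem stab_le (hM : IsPModular p M) {ζ : G →* ℂˣ} (hζ : PPrime p ζ) {B : Set (IrrCharacter G)}
    (hB : IsPBlock M B) {x : G} (h : Nz M ζ B x) [Fintype ζ.ker] {c : Set (IrrCharacter ζ.ker)}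
    (hc : IsPBlock M c) (hcov : Covers ζ.ker B c) (g : G) (hg : conjN ζ.ker g c = c) : ζ g = 1 := by
  have hz := isTw_tw hM h.1
  obtain ⟨θ, hθ⟩ := isPBlock_nonempty hc
  have h1 := lam_ne_zero hM hζ hB hz h.2 hc hcov hθ
  have h2 : irrMap (cjE g ζ.ker ζ.ker (mem_conj_iff ζ.ker g)) θ ∈ c := by
    rw [← hg]
    exact ⟨θ, hθ, rfl⟩
  have h3 := lam_res_cjE (M := M) (le_refl ζ.ker) hz θ g
  rw [lam_eq_of_mem hc h2 hθ] at h3
  rw [← zr_eq_one_iff hM hζ]
  have h4 : (zr M ζ g - 1) * lam M (θ : ζ.ker → ℂ) (res ζ.ker (tw M ζ x)) = 0 := by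
    rw [sub_mul, one_mul, sub_eq_zero, ← h3]
  rcases mul_eq_zero.1 h4 with h5 | h5
  · exact sub_eq_zero.1 h5
  · exact absurd h5 h1

/-- the converse criterion -/
theorem not_isNilpotent_of_lam (hM : IsPModular p M) {ζ : G →* ℂˣ} (hζ : PPrime p ζ)
    {B : Set (IrrCharacter G)} (hB : IsPBlock M B) {z : MonoidAlgebra (ResField M) G} (hz : IsTw ζ z)
    [Fintype ζ.ker] {c : Set (IrrCharacter ζ.ker)} (hc : IsPBlock M c) (hcov : Covers ζ.ker B c)
    {θ : IrrCharacter ζ.ker} (hθ : θ ∈ c) (h : lam M (θ : ζ.ker → ℂ) (res ζ.ker z) ≠ 0) :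
    ¬ IsNilpotent (idem M B * z) := by
  classical
  have : Fact p.Prime := ⟨hM.1⟩
  rintro ⟨n, hn⟩
  obtain ⟨k, hk, hpk, hζk⟩ := hζ
  have hUB := isUnion_of_isPBlock hB
  have hcls : IsCls (res ζ.ker z) := by
    refine isCls_res fun u hu y => ?_
    rw [hz u y, MonoidHom.mem_ker.1 hu, Units.val_one, redC_one, one_mul]
  have h4 : emb ζ.ker (res ζ.ker z) = z := by
    refine ext_coeff fun g => ?_
    by_cases hg : g ∈ ζ.ker
    · rw [coeff_emb_of_mem _ hg, coeff_res]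
    · rw [coeff_emb_of_notMem _ hg, hz.supp hM ⟨k, hk, hpk, hζk⟩ hg]
  have hcomm : Commute (idem M B) z := isCls_comm (isCls_idem B) z
  have h5 : idem M B * z ^ (k * (n + 1)) = 0 := by
    have h6 : (idem M B * z) ^ (k * (n + 1)) = 0 := by
      obtain ⟨m, hm⟩ : ∃ m, k * (n + 1) = n + m := ⟨k * (n + 1) - n, by
        have : n + 1 ≤ k * (n + 1) := Nat.le_mul_of_pos_left _ hk
        omega⟩
      rw [hm, pow_add, hn, zero_mul]
    rw [hcomm.mul_pow] at h6
    have h7 : idem M B ^ (k * (n + 1)) = idem M B := by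
      have h8 : IsIdempotentElem (idem M B) := idem_mul_self hM hUB
      exact h8.pow_eq (Nat.mul_ne_zero hk.ne' (Nat.succ_ne_zero n))
    rwa [h7] at h6
  have h6 : IsCls (z ^ (k * (n + 1))) :=
    hz.isCls_pow fun g => by rw [pow_mul, hζk, one_pow]
  obtain ⟨χ, hχ⟩ := isPBlock_nonempty hB
  have h7 : lam M (χ : G → ℂ) (z ^ (k * (n + 1))) = 0 := by
    have h8 := congrArg (lam M (χ : G → ℂ)) h5
    rwa [lam_mul χ (isCls_idem _) h6, lam_idem_of_mem hM hUB hχ, one_mul, map_zero] at h8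
  have h8 : res ζ.ker (z ^ (k * (n + 1))) = (res ζ.ker z) ^ (k * (n + 1)) := by
    have h9 : z ^ (k * (n + 1)) = emb ζ.ker ((res ζ.ker z) ^ (k * (n + 1))) := by
      rw [map_pow, h4]
    rw [h9, res_emb]
  have h9 := (covers_iff_lam ζ.ker hM hB hc).1 hcov χ hχ θ hθ _ h6 (by
    intro g hg
    have h9 : z ^ (k * (n + 1)) = emb ζ.ker ((res ζ.ker z) ^ (k * (n + 1))) := by
      rw [map_pow, h4]
    rw [h9, coeff_emb_of_notMem _ hg])
  rw [h7, h8, lam_pow θ hcls] at h9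
  exact h ((pow_eq_zero_iff (Nat.mul_ne_zero hk.ne' (Nat.succ_ne_zero n))).1 h9.symm)

end

end Cfsg.Agent.H624.Sl
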