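import Cfsg.Agent.H624.Sl.Tw
import Cfsg.Agent.H16.Sl.DefZero
import Cfsg.Agent.H595.Central

/-!
# W4 of S4536: a linear character contained exactly once gives a non-nilpotent twisted element
-/

set_option autoImplicit false
set_option linter.unusedSectionVars false

open Cfsg
open scoped ComplexConjugate

namespace Cfsg.Agent.H624.Sl

open Cfsg.Agent.H644 Cfsg.Agent.Blocks.Local Cfsg.Agent.H648.Dict Cfsg.Agent.Blocks.ConvCentral Cfsg.Agent.Blocks.MinMax
open Cfsg.Agent.H666.Clif (Ov ov_iff)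

universe u

section

variable {G : Type u} [Group G] [Finite G]

/-- if `χ` vanishes off `N` and `G / N` is cyclic then `χ` is induced from `N` -/
theorem indFun_eq [Fintype G] (N : Subgroup G) [hN : N.Normal] [Fintype N] (hc : IsCyclic (G ⧸ N))
    {χ : IrrCharacter G} {ε : IrrCharacter N} (h : Ov N χ ε)
    (hv : ∀ g, (χ : G → ℂ) g ≠ 0 → g ∈ N) : indFun N (ε : N → ℂ) = (χ : G → ℂ) := by
  classical
  have := Characters.Core.finite_irr (G := G)
  have := Fintype.ofFinite (IrrCharacter G)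
  obtain ⟨-, hdeg⟩ := Cfsg.Agent.H16.Sl.stab_eq N hc h hv
  obtain ⟨a, ha, ha'⟩ := CharDeep.CliffordCorr.exists_nat_coeffs_indFun N
    (Characters.Core.isIrr_isCharacter ε.2)
  have h1 : a χ ≠ 0 := by
    intro h0
    have h2 := ha' χ
    rw [h0, Nat.cast_zero, ← Characters.Core.classInner_conj_symm, map_eq_zero] at h2
    exact (ov_iff N χ ε).1 h h2
  choose d hd0 hd using fun ψ : IrrCharacter G => Characters.Core.isIrr_apply_one ψ.2
  have h2 : ∑ ψ : IrrCharacter G, a ψ * d ψ = d χ := by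
    have h3 := congrFun ha 1
    rw [CharactersDeep.NormalInd.indFun_one, ← hdeg, hd, Finset.sum_apply] at h3
    have h4 : ∀ ψ : IrrCharacter G, ((a ψ : ℂ) • (ψ : G → ℂ)) 1 = ((a ψ * d ψ : ℕ) : ℂ) := by
      intro ψ
      rw [Pi.smul_apply, hd, smul_eq_mul, Nat.cast_mul]
    rw [Finset.sum_congr rfl fun ψ _ => h4 ψ, ← Nat.cast_sum] at h3
    exact_mod_cast h3.symm
  rw [← Finset.add_sum_erase _ _ (Finset.mem_univ χ)] at h2
  have h3 : d χ ≤ a χ * d χ := Nat.le_mul_of_pos_left _ (Nat.pos_of_ne_zero h1)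
  have h4 : ∑ ψ ∈ Finset.univ.erase χ, a ψ * d ψ = 0 := by omega
  have h5 : a χ = 1 := by
    have h6 : a χ * d χ = 1 * d χ := by omega
    exact Nat.eq_of_mul_eq_mul_right (hd0 χ) h6
  rw [ha, Finset.sum_eq_single χ, h5, Nat.cast_one, one_smul]
  · intro ψ _ hne
    have h6 := (Finset.sum_eq_zero_iff.1 h4) ψ (Finset.mem_erase.2 ⟨hne, Finset.mem_univ _⟩)
    have h7 : a ψ = 0 := by
      rcases Nat.mul_eq_zero.1 h6 with h8 | h8
      · exact h8
      · exact absurd h8 (hd0 ψ).ne'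
    rw [h7, Nat.cast_zero, zero_smul]
  · exact fun h => absurd (Finset.mem_univ _) h

/-- the elements conjugating `x` to `c x c⁻¹` -/
def fibEquiv (x c : G) : Subgroup.centralizer ({x} : Set G) ≃ {g : G // g * x * g⁻¹ = c * x * c⁻¹} where
  toFun z := ⟨c * z, by
    have h := Subgroup.mem_centralizer_singleton_iff.1 z.2
    rw [mul_inv_rev, mul_assoc c, h]
    group⟩
  invFun g := ⟨c⁻¹ * g, by
    rw [Subgroup.mem_centralizer_singleton_iff]
    have h := g.2
    calc c⁻¹ * (g : G) * x = c⁻¹ * ((g : G) * x * (g : G)⁻¹) * g := by group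
      _ = c⁻¹ * (c * x * c⁻¹) * g := by rw [h]
      _ = x * (c⁻¹ * g) := by group⟩
  left_inv z := Subtype.ext (by simp)
  right_inv g := Subtype.ext (by simp)

open Classical in
/-- summation over a class -/
theorem sum_conj [Fintype G] (x : G) (f : G → ℂ) :
    ∑ g : G, f (g * x * g⁻¹) =
      (Nat.card (Subgroup.centralizer ({x} : Set G)) : ℂ) *
        ∑ y ∈ (Finset.univ.filter fun y : G => IsConj x y), f y := by
  rw [← Finset.sum_fiberwise_of_maps_to (s := Finset.univ) (t := Finset.univ.filter fun y : G => IsConj x y)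
    (g := fun g : G => g * x * g⁻¹) (fun g _ => by
      rw [Finset.mem_filter]
      exact ⟨Finset.mem_univ _, isConj_iff.2 ⟨g, rfl⟩⟩), Finset.mul_sum]
  refine Finset.sum_congr rfl fun y hy => ?_
  rw [Finset.mem_filter] at hy
  obtain ⟨c, rfl⟩ := isConj_iff.1 hy.2
  rw [Finset.sum_congr rfl (g := fun _ => f (c * x * c⁻¹))
    (fun g hg => by rw [(Finset.mem_filter.1 hg).2]), Finset.sum_const, nsmul_eq_mul]
  congr 2
  rw [Nat.card_congr (fibEquiv x c), Nat.card_eq_fintype_card, Fintype.card_subtype]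

variable {p : ℕ} {M : Ideal AlgInt} [M.IsPrime]

/-- the value of `lam` at a basic twisted element -/
theorem lam_tw [Fintype G] {ζ : G →* ℂˣ} [Fintype ζ.ker] (ε : IrrCharacter ζ.ker) {x : G}
    (hx : Subgroup.centralizer ({x} : Set G) ≤ ζ.ker) :
    ∃ ω : ℂ, MemLocalRing M ω ∧ redC M ω = lam M (ε : ζ.ker → ℂ) (res ζ.ker (tw M ζ x)) ∧
      ∑ g : G, (ζ g : ℂ) * extendByZero ζ.ker (ε : ζ.ker → ℂ) (g * x * g⁻¹) =
        (ε : ζ.ker → ℂ) 1 * (Nat.card (Subgroup.centralizer ({x} : Set G)) : ℂ) * ω := by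
  classical
  -- the coefficient function
  let f : G → ℂ := fun y => if h : ∃ g : G, g * x * g⁻¹ = y then (ζ h.choose : ℂ) else 0
  have hf : ∀ g : G, f (g * x * g⁻¹) = (ζ g : ℂ) := by
    intro g
    have h : ∃ g' : G, g' * x * g'⁻¹ = g * x * g⁻¹ := ⟨g, rfl⟩
    have h0 : f (g * x * g⁻¹) = (ζ h.choose : ℂ) := dif_pos h
    rw [h0]
    have h1 := h.choose_spec
    have h2 : g⁻¹ * h.choose ∈ ζ.ker := by
      apply hx
      rw [Subgroup.mem_centralizer_singleton_iff]
      calc g⁻¹ * h.choose * x = g⁻¹ * (h.choose * x * h.choose⁻¹) * h.choose := by group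
        _ = g⁻¹ * (g * x * g⁻¹) * h.choose := by rw [h1]
        _ = x * (g⁻¹ * h.choose) := by group
    rw [MonoidHom.mem_ker, map_mul, map_inv, inv_mul_eq_one] at h2
    rw [h2]
  have hf0 : ∀ y : G, ¬ IsConj x y → f y = 0 := by
    intro y hy
    refine dif_neg fun h => hy ?_
    exact isConj_iff.2 h
  have hfR : ∀ y, MemLocalRing M (f y) := by
    intro y
    by_cases hy : IsConj x y
    · obtain ⟨g, rfl⟩ := isConj_iff.1 hy
      rw [hf]
      exact memLocalRing_val ζ g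
    · rw [hf0 y hy]
      exact memLocalRing_zero
  have hfc : ∀ (h y : G), ζ h = 1 → f (h * y * h⁻¹) = f y := by
    intro h y hh
    by_cases hy : IsConj x y
    · obtain ⟨g, rfl⟩ := isConj_iff.1 hy
      have h1 : h * (g * x * g⁻¹) * h⁻¹ = (h * g) * x * (h * g)⁻¹ := by group
      rw [h1, hf, hf, map_mul, hh, one_mul]
    · rw [hf0 y hy, hf0]
      intro h1
      obtain ⟨g, hg⟩ := isConj_iff.1 h1
      refine hy (isConj_iff.2 ⟨h⁻¹ * g, ?_⟩)
      calc h⁻¹ * g * x * (h⁻¹ * g)⁻¹ = h⁻¹ * (g * x * g⁻¹) * h := by group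
        _ = y := by rw [hg]; group
  let f' : ζ.ker → ℂ := fun n => f (n : G)
  have hf'c : IsClassFunction ζ.ker f' := by
    intro y h
    exact hfc (h : G) (y : G) (MonoidHom.mem_ker.1 h.2)
  have h1 : res ζ.ker (tw M ζ x) = toK M f' := by
    refine ext_coeff fun n => ?_
    rw [coeff_res, coeff_toK]
    by_cases hn : IsConj x (n : G)
    · obtain ⟨g, hg⟩ := isConj_iff.1 hn
      change _ = redC M (f (n : G))
      rw [← hg, coeff_tw hx, hf, zr_apply]
    · change _ = redC M (f (n : G))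
      rw [hf0 _ hn, redC_zero, coeff_tw_of_not]
      exact fun h => hn (isConj_iff.2 h)
  refine ⟨omega (ε : ζ.ker → ℂ) f', memLocalRing_omega ε.2 hf'c fun y => hfR _, ?_, ?_⟩
  · rw [h1, lam_toK ε.2 hf'c fun y => hfR _]
  · have h2 : ∀ g : G, (ζ g : ℂ) * extendByZero ζ.ker (ε : ζ.ker → ℂ) (g * x * g⁻¹) =
        (fun y => f y * extendByZero ζ.ker (ε : ζ.ker → ℂ) y) (g * x * g⁻¹) := by
      intro g
      change _ = f (g * x * g⁻¹) * _
      rw [hf]
    rw [Finset.sum_congr rfl fun g _ => h2 g,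
      sum_conj x (fun y => f y * extendByZero ζ.ker (ε : ζ.ker → ℂ) y)]
    have h3 : ∑ y ∈ (Finset.univ.filter fun y : G => IsConj x y),
        f y * extendByZero ζ.ker (ε : ζ.ker → ℂ) y = ∑ n : ζ.ker, f' n * (ε : ζ.ker → ℂ) n := by
      have h4 : ∑ y ∈ (Finset.univ.filter fun y : G => IsConj x y),
          f y * extendByZero ζ.ker (ε : ζ.ker → ℂ) y =
          ∑ y : G, f y * extendByZero ζ.ker (ε : ζ.ker → ℂ) y := by
        refine Finset.sum_subset (Finset.subset_univ _) fun y _ hy => ?_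
        rw [hf0 y (fun h => hy (Finset.mem_filter.2 ⟨Finset.mem_univ _, h⟩)), zero_mul]
      rw [h4]
      have h5 : ∑ y : G, f y * extendByZero ζ.ker (ε : ζ.ker → ℂ) y =
          ∑ y ∈ (Finset.univ.filter fun y : G => y ∈ ζ.ker),
            f y * extendByZero ζ.ker (ε : ζ.ker → ℂ) y := by
        symm
        refine Finset.sum_subset (Finset.subset_univ _) fun y _ hy => ?_
        have hy' : y ∉ ζ.ker := fun h => hy (Finset.mem_filter.2 ⟨Finset.mem_univ _, h⟩)
        rw [Characters.Core.extendByZero_of_notMem _ _ hy', mul_zero]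
      rw [h5]
      symm
      refine Finset.sum_bij (fun (n : ζ.ker) _ => (n : G)) ?_ ?_ ?_ ?_
      · intro n _
        exact Finset.mem_filter.2 ⟨Finset.mem_univ _, n.2⟩
      · intro n _ n' _ h
        exact Subtype.ext h
      · intro y hy
        exact ⟨⟨y, (Finset.mem_filter.1 hy).2⟩, Finset.mem_univ _, rfl⟩
      · intro n _
        rw [Characters.Core.extendByZero_of_mem _ _ n.2]
    rw [h3, omega_def, lin_def]
    have h6 := Characters.Core.isIrr_apply_one_ne_zero ε.2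
    field_simp

theorem conj_val [Fintype G] (ψ : G →* ℂˣ) (u : G) : conj ((ψ u : ℂˣ) : ℂ) = (((ψ u)⁻¹ : ℂˣ) : ℂ) := by
  have h1 : ((ψ u : ℂˣ) : ℂ) ^ (orderOf u) = 1 := by
    rw [← Units.val_pow_eq_pow_val, ← map_pow, pow_orderOf_eq_one, map_one, Units.val_one]
  have h2 : ‖((ψ u : ℂˣ) : ℂ)‖ = 1 := by
    have h3 := congrArg norm h1
    rw [norm_pow, norm_one] at h3
    exact (pow_eq_one_iff_of_nonneg (norm_nonneg _) (orderOf_pos u).ne').1 h3
  rw [← Complex.inv_eq_conj h2, Units.val_inv_eq_inv_val]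

/-- the ratio of two natural numbers is a local integer -/
theorem memLocalRing_ratio (hM : IsPModular p M) {a b : ℕ} (ha : a ≠ 0) (hb : b ≠ 0)
    (h : b.factorization p ≤ a.factorization p) : MemLocalRing M ((a : ℂ) / (b : ℂ)) := by
  have hp := hM.1
  obtain ⟨b', hb'⟩ := Nat.ordProj_dvd b p
  have h1 : p ^ b.factorization p ∣ a := (hp.pow_dvd_iff_le_factorization ha).2 h
  obtain ⟨a', ha'⟩ := h1
  have hb'p : ¬ p ∣ b' := by
    intro h2
    have h3 : p ^ (b.factorization p + 1) ∣ b := by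
      rw [pow_succ]
      conv_rhs => rw [hb']
      exact Nat.mul_dvd_mul_left _ h2
    exact absurd ((hp.pow_dvd_iff_le_factorization hb).1 h3) (by omega)
  have h4 : (a : ℂ) / (b : ℂ) = (a' : ℂ) * ((b' : ℂ))⁻¹ := by
    have h5 : (a : ℂ) = (p : ℂ) ^ b.factorization p * (a' : ℂ) := by exact_mod_cast ha'
    have h6 : (b : ℂ) = (p : ℂ) ^ b.factorization p * (b' : ℂ) := by exact_mod_cast hb'
    have h7 : (p : ℂ) ^ b.factorization p ≠ 0 := pow_ne_zero _ (by exact_mod_cast hp.ne_zero)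
    rw [h5, h6, mul_div_mul_left _ _ h7, div_eq_mul_inv]
  rw [h4]
  exact memLocalRing_mul (memLocalRing_natCast a') (memLocalRing_inv_natCast hM hb'p)

/-- W4: a linear character `ψ` of the `p'`-subgroup `U ≤ ker ζ` contained exactly once in `χ`. -/
theorem exists_nz_of_linear' (hM : IsPModular p M) {ζ : G →* ℂˣ} (hζ : PPrime p ζ)
    (χ : IrrCharacter G) (hf : FixIrr ζ (χ : G → ℂ)) (U : Subgroup G) (hU : (Nat.card U).Coprime p)
    (hUζ : U ≤ ζ.ker) (ψ : U →* ℂˣ)
    (h1 : ∑ᶠ u : U, (χ : G → ℂ) u * ((ψ u)⁻¹ : ℂˣ) = Nat.card U)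
    (hd : (charDegree (χ : G → ℂ)).factorization p + (Nat.card (Subgroup.center G)).factorization p =
      (Nat.card G).factorization p) :
    ∃ u ∈ U, Nz M ζ (blockOf M (χ : G → ℂ)) u := by
  classical
  have : Fact p.Prime := ⟨hM.1⟩
  have hp : p.Prime := hM.1
  have := Fintype.ofFinite G
  have := Fintype.ofFinite ζ.ker
  have := Fintype.ofFinite U
  obtain ⟨ε, hε⟩ := Cfsg.Agent.Blocks.Fong.exists_constituent ζ.ker χ
  have hov : Ov ζ.ker χ ε := (ov_iff ζ.ker χ ε).2 hε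
  have hv : ∀ g, (χ : G → ℂ) g ≠ 0 → g ∈ ζ.ker := fun g hg => MonoidHom.mem_ker.2 (hf g hg)
  have hcyc := Cfsg.Agent.H16.Sl.isCyclic_quot_ker ζ
  obtain ⟨hs, hdeg⟩ := Cfsg.Agent.H16.Sl.stab_eq ζ.ker hcyc hov hv
  have hind := indFun_eq ζ.ker hcyc hov hv
  -- multiplicities
  let φ : G → U →* ζ.ker := fun y =>
    { toFun := fun u => ⟨y * u * y⁻¹, (MonoidHom.normal_ker ζ).conj_mem _ (hUζ u.2) y⟩
      map_one' := Subtype.ext (by simp)
      map_mul' := fun u v => Subtype.ext (by simp) }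
  have hφc : ∀ y, IsCharacter U (fun u => (ε : ζ.ker → ℂ) (φ y u)) := fun y =>
    Characters.Core.isCharacter_comp (φ y) (Characters.Core.isIrr_isCharacter ε.2)
  have hψc : IsCharacter U (fun u => ((ψ u : ℂˣ) : ℂ)) :=
    Characters.Core.isIrr_isCharacter (Cfsg.Agent.H595.Central.isIrr_hom ψ)
  choose m hm using fun y => Characters.Core.classInner_isNat (hφc y) hψc
  have hm' : ∀ y, ∑ u : U, (ε : ζ.ker → ℂ) (φ y u) * ((ψ u)⁻¹ : ℂˣ) = (Nat.card U : ℂ) * m y := by
    intro y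
    rw [← hm y, Characters.Core.classInner_def, ← mul_assoc, mul_inv_cancel₀
      (Characters.Core.card_ne_zero_complex (G := U)), one_mul]
    refine Finset.sum_congr rfl fun u _ => ?_
    rw [conj_val]
  have hcN0 := Characters.Core.card_ne_zero_complex (G := ζ.ker)
  have hcU0 := Characters.Core.card_ne_zero_complex (G := U)
  -- the sum of the multiplicities
  have hsum : ∑ y : G, m y = Nat.card ζ.ker := by
    rw [finsum_eq_sum_of_fintype, ← hind] at h1
    have h2 : ∀ u : U, indFun ζ.ker (ε : ζ.ker → ℂ) (u : G) =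
        (Nat.card ζ.ker : ℂ)⁻¹ * ∑ y : G, (ε : ζ.ker → ℂ) (φ y u) := by
      intro u
      rw [Characters.Core.indFun_apply]
      congr 1
      rw [← Equiv.sum_comp (Equiv.inv G)]
      refine Finset.sum_congr rfl fun y _ => ?_
      rw [Equiv.inv_apply, inv_inv, Characters.Core.extendByZero_of_mem _ _
        (show y * (u : G) * y⁻¹ ∈ ζ.ker from (φ y u).2)]
      rfl
    rw [Finset.sum_congr rfl fun u _ => by rw [h2 u]] at h1
    have h3 : ∑ u : U, (Nat.card ζ.ker : ℂ)⁻¹ * (∑ y : G, (ε : ζ.ker → ℂ) (φ y u)) *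
        ((ψ u)⁻¹ : ℂˣ) = (Nat.card ζ.ker : ℂ)⁻¹ * ∑ y : G, (Nat.card U : ℂ) * m y := by
      rw [Finset.sum_congr rfl fun y _ => (hm' y).symm, Finset.sum_comm, Finset.mul_sum]
      refine Finset.sum_congr rfl fun u _ => ?_
      rw [← Finset.sum_mul, mul_assoc]
    rw [h3, ← Finset.mul_sum] at h1
    have h4 : (∑ y : G, (m y : ℂ)) = Nat.card ζ.ker := by
      field_simp at h1
      exact h1
    exact_mod_cast h4
  have hmN : ∀ n ∈ ζ.ker, ∀ y, m (n * y) = m y := by
    intro n hn y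
    have h2 : (Nat.card U : ℂ) * m (n * y) = (Nat.card U : ℂ) * m y := by
      rw [← hm', ← hm']
      refine Finset.sum_congr rfl fun u _ => ?_
      congr 1
      have h3 := Blocks.Basic.irr_isClassFunction ε.2 (φ y u) ⟨n, hn⟩
      rw [← h3]
      refine congrArg (ε : ζ.ker → ℂ) (Subtype.ext ?_)
      change n * y * u * (n * y)⁻¹ = n * (y * u * y⁻¹) * n⁻¹
      group
    exact_mod_cast mul_left_cancel₀ hcU0 h2
  obtain ⟨y₀, hy₀⟩ : ∃ y, m y ≠ 0 := by
    by_contra hcon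
    push Not at hcon
    rw [Finset.sum_eq_zero fun y _ => hcon y] at hsum
    exact Nat.card_pos.ne hsum
  -- the coset of `y₀`
  let T : Finset G := Finset.univ.filter fun y => y * y₀⁻¹ ∈ ζ.ker
  have hT : ∀ y ∈ T, m y = m y₀ := by
    intro y hy
    have h2 := hmN _ (Finset.mem_filter.1 hy).2 y₀
    rwa [inv_mul_cancel_right] at h2
  have hTc : T.card = Nat.card ζ.ker := by
    rw [Nat.card_eq_fintype_card, ← Finset.card_univ]
    symm
    refine Finset.card_bij (fun (n : ζ.ker) _ => (n : G) * y₀) ?_ ?_ ?_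
    · intro n _
      refine Finset.mem_filter.2 ⟨Finset.mem_univ _, ?_⟩
      rw [mul_inv_cancel_right]
      exact n.2
    · intro n _ n' _ h
      exact Subtype.ext (mul_right_cancel h)
    · intro y hy
      exact ⟨⟨_, (Finset.mem_filter.1 hy).2⟩, Finset.mem_univ _, inv_mul_cancel_right _ _⟩
  have hsplit := Finset.sum_add_sum_compl T m
  rw [hsum, Finset.sum_congr rfl hT, Finset.sum_const, hTc, smul_eq_mul] at hsplit
  have hm1 : m y₀ = 1 ∧ ∑ y ∈ Tᶜ, m y = 0 := by
    have hN : 0 < Nat.card ζ.ker := Nat.card_pos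
    have h2 : 1 ≤ m y₀ := Nat.pos_of_ne_zero hy₀
    have h3 : Nat.card ζ.ker * m y₀ ≤ Nat.card ζ.ker * 1 := by omega
    have h4 : m y₀ ≤ 1 := Nat.le_of_mul_le_mul_left h3 hN
    have h5 : m y₀ = 1 := le_antisymm h4 h2
    refine ⟨h5, ?_⟩
    rw [h5] at hsplit
    omega
  -- the twisted sum
  have htw : ∑ y : G, (ζ y : ℂ) * (m y : ℂ) = (Nat.card ζ.ker : ℂ) * (ζ y₀ : ℂ) := by
    rw [← Finset.sum_add_sum_compl T]
    have h2 : ∑ y ∈ Tᶜ, (ζ y : ℂ) * (m y : ℂ) = 0 := by
      refine Finset.sum_eq_zero fun y hy => ?_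
      rw [Finset.sum_eq_zero_iff.1 hm1.2 y hy, Nat.cast_zero, mul_zero]
    rw [h2, add_zero, Finset.sum_congr rfl (g := fun _ => (ζ y₀ : ℂ)) (fun y hy => by
      rw [hT y hy, hm1.1, Nat.cast_one, mul_one]
      have h3 := MonoidHom.mem_ker.1 (Finset.mem_filter.1 hy).2
      rw [map_mul, map_inv, mul_inv_eq_one] at h3
      rw [h3]), Finset.sum_const, hTc, nsmul_eq_mul]
  by_contra hcon
  push Not at hcon
  -- every `u` contributes an element of the ideal
  have hcontr : ∀ u : U, ∃ ω : ℂ, MemLocalIdeal M ω ∧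
      ∑ g : G, (ζ g : ℂ) * (ε : ζ.ker → ℂ) (φ g u) = (Nat.card ζ.ker : ℂ) * ω := by
    intro u
    have hext : ∀ g : G, (ε : ζ.ker → ℂ) (φ g u) =
        extendByZero ζ.ker (ε : ζ.ker → ℂ) (g * (u : G) * g⁻¹) := by
      intro g
      rw [Characters.Core.extendByZero_of_mem _ _ (show g * (u : G) * g⁻¹ ∈ ζ.ker from (φ g u).2)]
      rfl
    by_cases hc : Subgroup.centralizer ({(u : G)} : Set G) ≤ ζ.ker
    · obtain ⟨ω, hω, hω2, hω3⟩ := lam_tw (M := M) ε hc
      have hnil : lam M (ε : ζ.ker → ℂ) (res ζ.ker (tw M ζ (u : G))) = 0 := by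
        by_contra hne
        refine hcon u u.2 ⟨hc, ?_⟩
        exact not_isNilpotent_of_lam hM hζ (Blocks.Basic.isPBlock_blockOf χ) (isTw_tw hM hc)
          (Blocks.Basic.isPBlock_blockOf ε)
          ⟨χ, Blocks.Basic.mem_blockOf_self χ, ε, Blocks.Basic.mem_blockOf_self ε, hε⟩
          (Blocks.Basic.mem_blockOf_self ε) hne
      rw [hnil, redC_eq_zero_iff hω] at hω2
      refine ⟨((ε : ζ.ker → ℂ) 1 * (Nat.card (Subgroup.centralizer ({(u : G)} : Set G)) : ℂ) /
        (Nat.card ζ.ker : ℂ)) * ω, ?_, ?_⟩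
      · refine memLocalIdeal_mul_left ?_ hω2
        have h2 : (ε : ζ.ker → ℂ) 1 * (Nat.card (Subgroup.centralizer ({(u : G)} : Set G)) : ℂ) /
            (Nat.card ζ.ker : ℂ) = ((charDegree (χ : G → ℂ) *
              Nat.card (Subgroup.centralizer ({(u : G)} : Set G)) : ℕ) : ℂ) / (Nat.card G : ℂ) := by
          have h3 := Subgroup.card_mul_index ζ.ker
          have h4 : ((ζ.ker.index : ℕ) : ℂ) ≠ 0 := by
            exact_mod_cast Subgroup.index_ne_zero_of_finite
          rw [← h3, Nat.cast_mul, Nat.cast_mul, ← Blocks.Basic.irr_one_eq_charDegree χ.2, hdeg]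
          field_simp
        rw [h2]
        have h5 : charDegree (χ : G → ℂ) ≠ 0 := (Blocks.Basic.charDegree_pos χ.2).ne'
        refine memLocalRing_ratio hM (mul_ne_zero h5 Nat.card_pos.ne') Nat.card_pos.ne' ?_
        rw [Nat.factorization_mul h5 Nat.card_pos.ne', Finsupp.add_apply, ← hd]
        refine Nat.add_le_add_left ?_ _
        have h6 : Subgroup.center G ≤ Subgroup.centralizer ({(u : G)} : Set G) :=
          Subgroup.center_le_centralizer _
        exact (Nat.factorization_le_iff_dvd Nat.card_pos.ne' Nat.card_pos.ne').2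
          (Subgroup.card_dvd_of_le h6) p
      · rw [Finset.sum_congr rfl fun g _ => by rw [hext g], hω3]
        field_simp
    · refine ⟨0, memLocalIdeal_zero, ?_⟩
      rw [mul_zero]
      obtain ⟨c, hc1, hc2⟩ := Set.not_subset.1 hc
      have hc3 : ζ c ≠ 1 := hc2
      have hc4 : c * (u : G) * c⁻¹ = u := by
        rw [Subgroup.mem_centralizer_singleton_iff.1 hc1, mul_inv_cancel_right]
      set S := ∑ g : G, (ζ g : ℂ) * (ε : ζ.ker → ℂ) (φ g u) with hS
      have h2 : S = (ζ c : ℂ) * S := by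
        conv_lhs => rw [hS, ← Equiv.sum_comp (Equiv.mulRight c)]
        rw [hS, Finset.mul_sum]
        refine Finset.sum_congr rfl fun g _ => ?_
        rw [Equiv.coe_mulRight, map_mul, Units.val_mul, mul_comm (ζ g : ℂ), mul_assoc]
        congr 2
        refine congrArg (ε : ζ.ker → ℂ) (Subtype.ext ?_)
        change g * c * (u : G) * (g * c)⁻¹ = g * u * g⁻¹
        calc g * c * (u : G) * (g * c)⁻¹ = g * (c * u * c⁻¹) * g⁻¹ := by group
          _ = g * u * g⁻¹ := by rw [hc4]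
      have h3 : (1 - (ζ c : ℂ)) * S = 0 := by rw [sub_mul, one_mul, sub_eq_zero]; exact h2
      rcases mul_eq_zero.1 h3 with h4 | h4
      · exact absurd (Units.ext (sub_eq_zero.1 h4).symm) hc3
      · exact h4
  choose ω hω1 hω2 using hcontr
  have hfin : (Nat.card U : ℂ) * (ζ y₀ : ℂ) = ∑ u : U, ω u * ((ψ u)⁻¹ : ℂˣ) := by
    have h2 : ∑ y : G, (ζ y : ℂ) * ((Nat.card U : ℂ) * (m y : ℂ)) =
        (Nat.card ζ.ker : ℂ) * ∑ u : U, ω u * ((ψ u)⁻¹ : ℂˣ) := by
      rw [Finset.sum_congr rfl fun y _ => by rw [← hm' y, Finset.mul_sum], Finset.sum_comm,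
        Finset.mul_sum]
      refine Finset.sum_congr rfl fun u _ => ?_
      rw [← mul_assoc, ← hω2 u, Finset.sum_mul]
      refine Finset.sum_congr rfl fun y _ => ?_
      rw [mul_assoc]
    have h3 : ∑ y : G, (ζ y : ℂ) * ((Nat.card U : ℂ) * (m y : ℂ)) =
        (Nat.card ζ.ker : ℂ) * ((Nat.card U : ℂ) * (ζ y₀ : ℂ)) := by
      rw [Finset.sum_congr rfl (g := fun y => (Nat.card U : ℂ) * ((ζ y : ℂ) * (m y : ℂ)))
        (fun y _ => by ring), ← Finset.mul_sum, htw]
      ring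
    exact mul_left_cancel₀ hcN0 (h3.symm.trans h2)
  have hI : MemLocalIdeal M ((Nat.card U : ℂ) * (ζ y₀ : ℂ)) := by
    rw [hfin]
    exact memLocalIdeal_sum fun u _ => memLocalIdeal_mul_right (hω1 u)
      (by rw [← map_inv]; exact memLocalRing_val ψ u⁻¹)
  have hI2 : MemLocalIdeal M (Nat.card U : ℂ) := by
    have h2 : (Nat.card U : ℂ) = (Nat.card U : ℂ) * (ζ y₀ : ℂ) * (ζ y₀⁻¹ : ℂ) := by
      rw [mul_assoc, ← Units.val_mul, ← map_mul, mul_inv_cancel, map_one, Units.val_one, mul_one]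
    rw [h2]
    exact memLocalIdeal_mul_right hI (memLocalRing_val ζ y₀⁻¹)
  rw [memLocalIdeal_natCast_iff hM] at hI2
  exact hp.one_lt.ne' (Nat.dvd_one.1 (hU ▸ Nat.dvd_gcd hI2 dvd_rfl))

end

end Cfsg.Agent.H624.Sl
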