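import Cfsg.Agent.H624.Sl.WFour
import Cfsg.Agent.H626.Whit.Sum
import Cfsg.Agent.StdRank2.UTn
import Cfsg.Agent.H139.Cusp.Formula

/-!
# T4 of S4536: the cuspidal blocks of central defect do not vanish on the unipotent elements
-/

set_option autoImplicit false
set_option linter.unusedSectionVars false

open Cfsg Polynomial
open scoped MatrixGroups

namespace Cfsg.Agent.H624.Sl

open Cfsg.Agent.H644 Cfsg.Agent.Blocks.Local Cfsg.Agent.H648.Dict
open Cfsg.Agent.SylowL.Lev Cfsg.Agent.SylowL.UT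
open Cfsg.Agent.H139.Cusp

universe u

attribute [local instance] fintypeHom fintypeSub finite_quot

variable {K : Type u} [Field K] [Finite K]

/-- the sum of the superdiagonal coefficients -/
def supd {m : ℕ} (g : UT (m + 1) K) : K := ∑ i : Fin m, N g i.castSucc i.succ

theorem supd_mul {m : ℕ} (g h : UT (m + 1) K) : supd (g * h) = supd g + supd h := by
  rw [supd, supd, supd, ← Finset.sum_add_distrib]
  refine Finset.sum_congr rfl fun i _ => ?_
  have h1 : (N g * N h) i.castSucc i.succ = 0 := by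
    have h2 := mem_lev'.1 (mul_mem_lev (N_mem g) (N_mem h))
    refine h2 _ _ ?_
    rw [Fin.val_succ, Fin.val_castSucc]
    omega
  rw [N_mul, Matrix.add_apply, Matrix.add_apply, h1, add_zero]

/-- the nondegenerate linear character of the unitriangular group -/
noncomputable def psiU (m : ℕ) (ψ : AddChar K ℂ) : UT (m + 1) K →* ℂˣ :=
  MonoidHom.toHomUnits
    { toFun := fun g => ψ (supd g)
      map_one' := by
        have h : supd (1 : UT (m + 1) K) = 0 := by
          have := supd_mul (1 : UT (m + 1) K) 1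
          rw [mul_one] at this
          exact left_eq_add.1 this
        rw [h, AddChar.map_zero_eq_one]
      map_mul' := fun g h => by rw [supd_mul, AddChar.map_add_eq_mul] }

theorem psiU_apply (m : ℕ) (ψ : AddChar K ℂ) (g : UT (m + 1) K) :
    ((psiU m ψ g : ℂˣ) : ℂ) = ψ (supd g) := rfl

theorem psiU_inv_apply (m : ℕ) (ψ : AddChar K ℂ) (g : UT (m + 1) K) :
    (((psiU m ψ g)⁻¹ : ℂˣ) : ℂ) = ψ (- supd g) := by
  rw [← map_inv, psiU_apply]
  congr 1
  have h := supd_mul g g⁻¹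
  have h1 : supd (1 : UT (m + 1) K) = 0 := by
    have := supd_mul (1 : UT (m + 1) K) 1
    rw [mul_one] at this
    exact left_eq_add.1 this
  rw [mul_inv_cancel, h1] at h
  exact (neg_eq_of_add_eq_zero_right h.symm).symm

theorem mem_UT_iff {m : ℕ} (x : GL (Fin m) K) : x ∈ UT m K ↔
    (∀ i, x.1 i i = 1) ∧ ∀ i j, j < i → x.1 i j = 0 := by
  change (x : Matrix (Fin m) (Fin m) K) - 1 ∈ lev m K 1 ↔ _
  rw [mem_lev']
  constructor
  · intro h
    constructor
    · intro i
      have := h i i (by omega)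
      rwa [Matrix.sub_apply, Matrix.one_apply_eq, sub_eq_zero] at this
    · intro i j hij
      have := h i j (by have : (j : ℕ) < i := hij; omega)
      rwa [Matrix.sub_apply, Matrix.one_apply_ne (ne_of_gt hij), sub_zero] at this
  · rintro ⟨h1, h2⟩ i j hij
    rw [Matrix.sub_apply]
    rcases lt_or_eq_of_le (show j ≤ i from Nat.lt_succ_iff.1 hij) with h | h
    · rw [h2 i j h, Matrix.one_apply_ne (ne_of_gt h), sub_zero]
    · rw [h, h1, Matrix.one_apply_eq, sub_self]

open Classical in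
/-- sums over the unitriangular group -/
theorem sum_UT [Fintype K] {m : ℕ} [Fintype (UT m K)] (f : Matrix (Fin m) (Fin m) K → ℂ) :
    ∑ u : UT m K, f ((u : GL (Fin m) K) : Matrix (Fin m) (Fin m) K) =
      ∑ x ∈ Finset.univ.filter (fun x : Matrix (Fin m) (Fin m) K =>
        (∀ i, x i i = 1) ∧ ∀ i j, j < i → x i j = 0), f x := by
  refine Finset.sum_bij (fun u _ => ((u : GL (Fin m) K) : Matrix (Fin m) (Fin m) K)) ?_ ?_ ?_ ?_
  · intro u _
    rw [Finset.mem_filter]
    exact ⟨Finset.mem_univ _, (mem_UT_iff _).1 u.2⟩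
  · intro u _ v _ h
    exact Subtype.ext (Units.ext h)
  · intro x hx
    rw [Finset.mem_filter] at hx
    have h1 : x - 1 ∈ lev m K 1 := by
      rw [mem_lev']
      intro i j hij
      rw [Matrix.sub_apply]
      rcases lt_or_eq_of_le (show j ≤ i from Nat.lt_succ_iff.1 hij) with h | h
      · rw [hx.2.2 i j h, Matrix.one_apply_ne (ne_of_gt h), sub_zero]
      · rw [h, hx.2.1, Matrix.one_apply_eq, sub_self]
    refine ⟨mk (x - 1) h1, Finset.mem_univ _, ?_⟩
    rw [val_eq, N_mk, add_sub_cancel]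
  · intro u _
    rfl

theorem uni_of_mem_UT {m : ℕ} {x : GL (Fin m) K} (hx : x ∈ UT m K) : Uni x :=
  Cfsg.Agent.SylowL.Lev.pow_eq_zero hx

theorem det_of_mem_UT {m : ℕ} {x : GL (Fin m) K} (hx : x ∈ UT m K) :
    Matrix.GeneralLinearGroup.det x = 1 := by
  obtain ⟨h1, h2⟩ := (mem_UT_iff x).1 hx
  ext
  rw [Matrix.GeneralLinearGroup.val_det_apply, Matrix.det_of_isUpperTriangular (fun i j hij => h2 i j hij)]
  simp [h1]

/-- the degree of the cuspidal characters -/
theorem cusp_one {m : ℕ} (b : K[X] → ℂ)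
    (hb : ∀ p q : K[X], p.Monic → q.Monic → b (p * q) = b p + b q) (h1 : b (X - 1) = 1) :
    (-1) ^ m * kap b (Matrix.toLin' (1 : Matrix (Fin (m + 1)) (Fin (m + 1)) K)) ⊤ =
      ((∏ i ∈ Finset.range m, (Nat.card K ^ (i + 1) - 1) : ℕ) : ℂ) := by
  have hX : (X - 1 : K[X]) = X - C 1 := by rw [map_one]
  have hdeg : (X - 1 : K[X]).natDegree = 1 := by rw [hX, natDegree_X_sub_C]
  have h0 : aeval (Matrix.toLin' (1 : Matrix (Fin (m + 1)) (Fin (m + 1)) K)) (X - 1 : K[X]) = 0 := by
    rw [Matrix.toLin'_one, map_sub, aeval_X, map_one]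
    exact sub_self _
  rw [kap_formula b hb (f := X - 1) (by rw [hX]; exact monic_X_sub_C 1)
    (by rw [hX]; exact irreducible_X_sub_C 1) (m := 1) (by rw [pow_one]; exact h0) (k := m)
    (by rw [h0, LinearMap.ker_zero, finrank_top, Module.finrank_fin_fun, hdeg, one_mul]), h1, one_mul,
    hdeg, Nat.cast_prod]
  have hsign : ((-1 : ℂ)) ^ m = ∏ _i ∈ Finset.range m, (-1 : ℂ) := by
    rw [Finset.prod_const, Finset.card_range]
  rw [hsign, ← Finset.prod_mul_distrib]
  refine Finset.prod_congr rfl fun i _ => ?_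
  have hq : 1 ≤ Nat.card K ^ (i + 1) := Nat.one_le_pow _ _ Nat.card_pos
  rw [Nat.cast_sub hq]
  push_cast
  ring

theorem coprime_card {p : ℕ} (hp : p.Prime) (h : p ∣ Nat.card K - 1) : (Nat.card K).Coprime p := by
  rw [Nat.coprime_comm, hp.coprime_iff_not_dvd]
  intro h1
  have h2 : 0 < Nat.card K := Nat.card_pos
  have h3 : p ∣ Nat.card K - (Nat.card K - 1) := Nat.dvd_sub h1 h
  rw [Nat.sub_sub_self h2] at h3
  exact hp.one_lt.ne' (Nat.dvd_one.1 h3)

/-- `(q^(m+1) - 1)_p = (q - 1)_p` if `p` divides `q - 1` but not `m + 1`. -/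
theorem fact_pow_sub_one {p q m : ℕ} (hp : p.Prime) (hq : 1 < q) (h : p ∣ q - 1) (hm : ¬ p ∣ m + 1) :
    (q ^ (m + 1) - 1).factorization p = (q - 1).factorization p := by
  have h1 : q ^ (m + 1) - 1 = (∑ i ∈ Finset.range (m + 1), q ^ i) * (q - 1) := by
    have h2 := Nat.geomSum_eq hq (m + 1)
    rw [h2, Nat.div_mul_cancel (by simpa using Nat.sub_dvd_pow_sub_pow q 1 (m + 1))]
  have h3 : ¬ p ∣ ∑ i ∈ Finset.range (m + 1), q ^ i := by
    intro h4
    apply hm
    have h5 : (∑ i ∈ Finset.range (m + 1), q ^ i) ≡ ∑ i ∈ Finset.range (m + 1), 1 ^ i [MOD p] := by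
      have h6 : q ≡ 1 [MOD p] := ((Nat.modEq_iff_dvd' hq.le).2 h).symm
      exact Nat.ModEq.sum fun i _ => h6.pow i
    simp only [one_pow, Finset.sum_const, Finset.card_range, smul_eq_mul, mul_one] at h5
    exact (Nat.modEq_zero_iff_dvd.1 (h5.symm.trans (Nat.modEq_zero_iff_dvd.2 h4)))
  have h4 : (∑ i ∈ Finset.range (m + 1), q ^ i) ≠ 0 := by
    intro h5
    rw [h5] at h3
    exact h3 (dvd_zero p)
  rw [h1, Nat.factorization_mul h4 (by omega), Finsupp.add_apply,
    Nat.factorization_eq_zero_of_not_dvd h3, zero_add]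

theorem card_center_GL {m : ℕ} : Nat.card (Subgroup.center (GL (Fin (m + 1)) K)) = Nat.card K - 1 := by
  rw [Matrix.GeneralLinearGroup.center_eq_range_scalar, ← Nat.card_units]
  refine (Nat.card_congr (Equiv.ofInjective _ ?_)).symm
  intro a b hab
  have h1 := congrArg (fun g : GL (Fin (m + 1)) K => g.1 0 0) hab
  ext
  simpa using h1

theorem fact_card_GL {p m : ℕ} (hp : p.Prime) (h : p ∣ Nat.card K - 1) (hm : ¬ p ∣ m + 1) :
    (∏ i ∈ Finset.range m, (Nat.card K ^ (i + 1) - 1)).factorization p +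
      (Nat.card K - 1).factorization p = (Nat.card (GL (Fin (m + 1)) K)).factorization p := by
  classical
  have := Fintype.ofFinite K
  have hq : 1 < Nat.card K := Finite.one_lt_card
  have hcop : ¬ p ∣ Nat.card K := fun h1 => by
    have := coprime_card hp h
    rw [Nat.coprime_comm, hp.coprime_iff_not_dvd] at this
    exact this h1
  have h0 : ∀ i : ℕ, Nat.card K ^ (i + 1) - 1 ≠ 0 := by
    intro i
    have := Nat.one_lt_pow (show i + 1 ≠ 0 by omega) hq
    omega
  rw [Matrix.card_GL_field, ← Nat.card_eq_fintype_card, Nat.factorization_prod (fun i _ => h0 i)]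
  have h1 : ∀ i : Fin (m + 1), Nat.card K ^ (m + 1) - Nat.card K ^ (i : ℕ) =
      Nat.card K ^ (i : ℕ) * (Nat.card K ^ (m - i + 1) - 1) := by
    intro i
    rw [Nat.mul_sub, mul_one, ← pow_add]
    congr 2
    have := i.2
    omega
  rw [Finset.prod_congr rfl fun i _ => h1 i, Nat.factorization_prod (fun i _ =>
    mul_ne_zero (pow_ne_zero _ (by omega)) (h0 _)), Finsupp.coe_finsetSum, Finsupp.coe_finsetSum,
    Finset.sum_apply, Finset.sum_apply]
  have h2 : ∀ i : Fin (m + 1), (Nat.card K ^ (i : ℕ) * (Nat.card K ^ (m - i + 1) - 1)).factorization p =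
      (Nat.card K ^ (m - i + 1) - 1).factorization p := by
    intro i
    rw [Nat.factorization_mul (pow_ne_zero _ (by omega)) (h0 _), Finsupp.add_apply,
      Nat.factorization_eq_zero_of_not_dvd (fun h3 => hcop (hp.dvd_of_dvd_pow h3)), zero_add]
  rw [Finset.sum_congr rfl fun i _ => h2 i]
  rw [Fin.sum_univ_eq_sum_range (fun i => (Nat.card K ^ (m - i + 1) - 1).factorization p) (m + 1),
    Finset.sum_range_succ', Nat.sub_zero, fact_pow_sub_one hp hq h hm]
  congr 1
  rw [← Finset.sum_range_reflect]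
  refine Finset.sum_congr rfl fun k hk => ?_
  rw [Finset.mem_range] at hk
  have h3 : m - (k + 1) + 1 = m - 1 - k + 1 := by omega
  rw [h3]

theorem card_UT' (m : ℕ) : Nat.card (UT (m + 1) K) = Nat.card K ^ (m * (m + 1) / 2) := by
  have := Fintype.ofFinite K
  rw [Cfsg.Agent.StdRank2.UTn.Coord.card_UT, Nat.card_eq_fintype_card, Nat.add_sub_cancel, mul_comm]

/-- T4: a cuspidal block of central defect does not vanish on the unipotent elements. -/
theorem exists_unipotent_nz {k : ℕ} {p : ℕ} {M : Ideal AlgInt} [M.IsPrime] (hM : IsPModular p M) (hk : 0 < k)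
    (hp : p ∣ Nat.card K - 1) (hpk : ¬ p ∣ k) {α : Kˣ →* ℂˣ} (hα : PPrime p α)
    (θ : IrrCharacter (GL (Fin k) K)) (hθ : IsCusp (θ : GL (Fin k) K → ℂ))
    (hf : FixIrr (dch k α) (θ : GL (Fin k) K → ℂ)) :
    ∃ x : GL (Fin k) K, Uni x ∧ Nz M (dch k α) (blockOf M (θ : GL (Fin k) K → ℂ)) x := by
  classical
  have := Fintype.ofFinite K
  obtain ⟨m, rfl⟩ : ∃ m, k = m + 1 := ⟨k - 1, by omega⟩
  obtain ⟨b, hb, hb1, hθb⟩ := hθ
  have hpp := hM.1
  have hqc := coprime_card hpp hp
  obtain ⟨ψ, hψ⟩ : ∃ ψ : AddChar K ℂ, ψ ≠ 1 := by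
    obtain ⟨ψ, hψ⟩ := (AddChar.exists_apply_ne_zero (a := (1 : K))).2 one_ne_zero
    refine ⟨ψ, fun h => hψ ?_⟩
    rw [h, AddChar.one_apply]
  have hζ : PPrime p (dch (m + 1) α) := by
    obtain ⟨r, hr, hpr, h⟩ := hα
    exact ⟨r, hr, hpr, fun g => h _⟩
  have hθ1 : (θ : GL (Fin (m + 1)) K → ℂ) 1 = ((∏ i ∈ Finset.range m, (Nat.card K ^ (i + 1) - 1) : ℕ) : ℂ) := by
    rw [← cusp_one b hb hb1, hθb]
    rfl
  obtain ⟨u, hu, hnz⟩ := exists_nz_of_linear' hM hζ θ hf (UT (m + 1) K)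
    (by rw [card_UT']; exact Nat.Coprime.pow_left _ hqc)
    (by
      intro x hx
      rw [MonoidHom.mem_ker, dch, MonoidHom.comp_apply, det_of_mem_UT hx, map_one])
    (psiU m ψ) (by
      have hfin : Fintype (UT (m + 1) K) := Fintype.ofFinite _
      rw [finsum_eq_sum_of_fintype, card_UT']
      have h1 := Cfsg.Agent.H626.Whit.sum_ut_kap b hb m ψ hψ (fun _ => -1) (fun _ => neg_ne_zero.2 one_ne_zero)
      have h0 : ∑ x ∈ Finset.univ.filter (fun x : Matrix (Fin (m + 1)) (Fin (m + 1)) K =>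
          Cfsg.Agent.H505.S4536.UT x), kap b (Matrix.toLin' x) ⊤ *
            ψ (∑ i : Fin m, (-1) * x i.castSucc i.succ) =
          ∑ u : UT (m + 1) K, kap b (Matrix.toLin' (u : GL (Fin (m + 1)) K).1) ⊤ *
            ψ (∑ i : Fin m, (-1) * (u : GL (Fin (m + 1)) K).1 i.castSucc i.succ) :=
        by
          rw [sum_UT (fun x => kap b (Matrix.toLin' x) ⊤ * ψ (∑ i : Fin m, (-1) * x i.castSucc i.succ))]
          refine Finset.sum_congr ?_ fun _ _ => rfl
          ext x
          rw [Finset.mem_filter, Finset.mem_filter]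
          rfl
      rw [h0, hb1, mul_one, ← Nat.card_eq_fintype_card] at h1
      have h2 : ∀ u : UT (m + 1) K, (θ : GL (Fin (m + 1)) K → ℂ) (u : GL (Fin (m + 1)) K) *
          (((psiU m ψ u)⁻¹ : ℂˣ) : ℂ) = (-1) ^ m * (kap b (Matrix.toLin' (u : GL (Fin (m + 1)) K).1) ⊤ *
            ψ (∑ i : Fin m, (-1) * (u : GL (Fin (m + 1)) K).1 i.castSucc i.succ)) := by
        intro u
        rw [hθb, psiU_inv_apply, Nat.add_sub_cancel, mul_assoc]
        congr 3
        rw [supd, ← Finset.sum_neg_distrib]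
        refine Finset.sum_congr rfl fun i _ => ?_
        rw [N, Matrix.sub_apply, Matrix.one_apply_ne (Fin.castSucc_lt_succ).ne, sub_zero, neg_one_mul]
      rw [Finset.sum_congr rfl fun u _ => h2 u, ← Finset.mul_sum, h1, ← mul_assoc, ← mul_pow]
      push_cast
      norm_num)
    (by
      rw [Cfsg.Agent.Blocks.Basic.charDegree_of_eq hθ1, card_center_GL]
      exact fact_card_GL hpp hp hpk)
  exact ⟨u, uni_of_mem_UT hu, hnz⟩

end Cfsg.Agent.H624.Sl
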