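import Cfsg.Agent.H624.Sl.Cusp
import Cfsg.Agent.H466.Sl.NzStep
import Cfsg.Agent.H16.Sl.DefZero
import Cfsg.Agent.H901.Sl.JJ
import Cfsg.Agent.H156.Sl.LA2
import Cfsg.Agent.H451.Sl.Norm
import Cfsg.Agent.H1.Sl.Extremal
import Cfsg.Agent.H987.Sl.KdConj

/-!
# Lemma A of S4536
-/

set_option autoImplicit false
set_option linter.unusedSectionVars false

open Cfsg Polynomial
open scoped MatrixGroups

namespace Cfsg.Agent.H624.Sl

open Cfsg.Agent.H644 Cfsg.Agent.Blocks.Local Cfsg.Agent.H648.Dict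
open Cfsg.Agent.H901.Sl (kd_jj det_jj centralizer_jj jj_injective)
open Cfsg.Agent.H156.Sl (centralizer_le_of_kd)
open Cfsg.Agent.H451.Sl (pow_eq_one_of_centralizer_le)
open Cfsg.Agent.H466.Sl (nz_step)

universe u

section

variable {F : Type u} [Field F] {n : ℕ}

/-- the invariants are class functions -/
theorem kd_conj {x y : GL (Fin n) F} (h : IsConj x y) (g : F[X]) : kd x g = kd y g := by
  obtain ⟨c, rfl⟩ := isConj_iff.1 h
  have h1 : ∀ v, aeval (Matrix.toLin' (c * x * c⁻¹).1) g (glE F n c v) =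
      glE F n c (aeval (Matrix.toLin' x.1) g v) := by
    intro v
    induction g using Polynomial.induction_on' with
    | add p q hp hq => rw [map_add, map_add, LinearMap.add_apply, LinearMap.add_apply, hp, hq, map_add]
    | monomial k a =>
      rw [aeval_monomial, aeval_monomial, ← Algebra.smul_def, ← Algebra.smul_def, LinearMap.smul_apply,
        LinearMap.smul_apply, map_smul]
      congr 1
      rw [← Matrix.toLin'_pow, ← Matrix.toLin'_pow, Matrix.toLin'_apply, Matrix.toLin'_apply, glE_apply,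
        glE_apply, Matrix.mulVec_mulVec, Matrix.mulVec_mulVec]
      congr 1
      rw [← Units.val_pow_eq_pow_val, ← Units.val_pow_eq_pow_val, conj_pow, ← Units.val_mul, ← Units.val_mul,
        inv_mul_cancel_right]
  refine LinearEquiv.finrank_eq (LinearEquiv.ofSubmodules (glE F n c) _ _ ?_)
  ext v
  rw [Submodule.mem_map]
  constructor
  · rintro ⟨w, hw, rfl⟩
    rw [LinearMap.mem_ker] at hw ⊢
    change aeval (Matrix.toLin' (c * x * c⁻¹).1) g (glE F n c w) = 0
    rw [h1, hw, map_zero]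
  · intro hv
    refine ⟨(glE F n c).symm v, ?_, (glE F n c).apply_symm_apply v⟩
    rw [LinearMap.mem_ker] at hv ⊢
    apply (glE F n c).injective
    rw [← h1, LinearEquiv.apply_symm_apply, hv, map_zero]

end

section

variable {F : Type u} [Field F] [Finite F] {K : Type u} [Field K] [Finite K] [Algebra F K] {k m n : ℕ}

theorem dch_jj (e : ((Fin k → K) × (Fin m → F)) ≃ₗ[F] (Fin n → F)) (α : Fˣ →* ℂˣ) (A : GL (Fin k) K)
    (B : GL (Fin m) F) : dch n α (jj e (A, B)) = dch k (α.comp (nrm F K)) A * dch m α B := by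
  rw [dch, MonoidHom.comp_apply, det_jj, map_mul]
  rfl

theorem dch_jj_inl (e : ((Fin k → K) × (Fin m → F)) ≃ₗ[F] (Fin n → F)) (α : Fˣ →* ℂˣ) :
    (dch n α).comp ((jj e).comp (MonoidHom.inl _ _)) = dch k (α.comp (nrm F K)) := by
  ext1 A
  change dch n α (jj e (A, 1)) = _
  rw [dch_jj, map_one, mul_one]

theorem dch_jj_inr (e : ((Fin k → K) × (Fin m → F)) ≃ₗ[F] (Fin n → F)) (α : Fˣ →* ℂˣ) :
    (dch n α).comp ((jj e).comp (MonoidHom.inr _ _)) = dch m α := by
  ext1 B
  change dch n α (jj e (1, B)) = _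
  rw [dch_jj, map_one, one_mul]

theorem rootMult_pow {R : Type*} [Field R] (f : R[X]) (a : R) (t : ℕ) :
    (f ^ t).rootMultiplicity a = t * f.rootMultiplicity a := by
  classical
  rw [← Polynomial.count_roots, ← Polynomial.count_roots, Polynomial.roots_pow, Multiset.count_nsmul]

/-- the centralizer of an extremal element -/
theorem centralizer_jj_le (e : ((Fin k → K) × (Fin m → F)) ≃ₗ[F] (Fin n → F)) (α : Fˣ →* ℂˣ)
    (x₁ : GL (Fin k) K) (x₂ : GL (Fin m) F) (hx₁ : Uni x₁)
    (h₁ : Subgroup.centralizer ({x₁} : Set (GL (Fin k) K)) ≤ (dch k (α.comp (nrm F K))).ker)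
    (h₂ : Subgroup.centralizer ({x₂} : Set (GL (Fin m) F)) ≤ (dch m α).ker) :
    Subgroup.centralizer ({jj e (x₁, x₂)} : Set (GL (Fin n) F)) ≤ (dch n α).ker := by
  refine centralizer_le_of_kd _ α fun f hf i hi z => ?_
  by_cases h : kd x₂ (f ^ (i + 2)) + kd x₂ (f ^ i) = 2 * kd x₂ (f ^ (i + 1))
  · have hne : kd x₁ ((f.map (algebraMap F K)) ^ (i + 2)) + kd x₁ ((f.map (algebraMap F K)) ^ i) ≠
        2 * kd x₁ ((f.map (algebraMap F K)) ^ (i + 1)) := by
      intro h1
      apply hi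
      rw [kd_jj, kd_jj, kd_jj, Polynomial.map_pow, Polynomial.map_pow, Polynomial.map_pow]
      have h3 := congrArg (fun t => Module.finrank F K * t) h1
      simp only [mul_add] at h3
      linarith [h3, h, Nat.mul_left_comm (Module.finrank F K) 2
        (kd x₁ ((f.map (algebraMap F K)) ^ (i + 1)))]
    have hf0 : f.map (algebraMap F K) ≠ 0 := (Polynomial.map_ne_zero_iff (algebraMap F K).injective).2 hf.ne_zero
    -- `f` is associated to `X - 1`
    have hroot : f.IsRoot 1 := by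
      by_contra hr
      apply hne
      have hr' : (f.map (algebraMap F K)).rootMultiplicity 1 = 0 := by
        refine Polynomial.rootMultiplicity_eq_zero fun h4 => hr ?_
        have h5 : (f.map (algebraMap F K)).IsRoot (algebraMap F K 1) := by rwa [map_one]
        exact (Polynomial.isRoot_map_iff (algebraMap F K).injective).1 h5
      have h6 : ∀ t, kd x₁ ((f.map (algebraMap F K)) ^ t) = kd x₁ 1 := by
        intro t
        rw [Cfsg.Agent.H1.Sl.kd_uni x₁ hx₁ _ (pow_ne_zero t hf0), rootMult_pow, hr',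
          mul_zero, pow_zero]
      rw [h6, h6, h6, two_mul]
    obtain ⟨c, hc⟩ := Polynomial.dvd_iff_isRoot.2 hroot
    have hcu : IsUnit c := (hf.isUnit_or_isUnit hc).resolve_left (Polynomial.not_isUnit_X_sub_C 1)
    obtain ⟨c0, hc0, hcc⟩ := Polynomial.isUnit_iff.1 hcu
    have h7 : ∀ t, kd x₁ ((f.map (algebraMap F K)) ^ t) = kd x₁ ((X - 1) ^ t) := by
      intro t
      rw [Cfsg.Agent.H1.Sl.kd_uni x₁ hx₁ _ (pow_ne_zero t hf0), rootMult_pow]
      have h8 : (f.map (algebraMap F K)).rootMultiplicity 1 = 1 := by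
        have h9 : f.map (algebraMap F K) = (X - C 1) * C (algebraMap F K c0) := by
          rw [hc, ← hcc, Polynomial.map_mul, Polynomial.map_sub, Polynomial.map_X, Polynomial.map_C,
            Polynomial.map_C, map_one]
        rw [h9, Polynomial.rootMultiplicity_mul (by rw [← h9]; exact hf0),
          Polynomial.rootMultiplicity_X_sub_C_self, Polynomial.rootMultiplicity_C]
      rw [h8, mul_one]
    rw [h7, h7, h7] at hne
    have h10 := pow_eq_one_of_centralizer_le x₁ (α.comp (nrm F K)) h₁ (X - 1)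
      (by rw [← map_one C]; exact Polynomial.irreducible_X_sub_C 1) i hne
    obtain ⟨w, hw⟩ := FiniteField.unitsMap_norm_surjective F K z
    have h11 := h10 w
    rw [MonoidHom.comp_apply] at h11
    have h12 : nrm F K w = z := hw
    rwa [h12] at h11
  · exact pow_eq_one_of_centralizer_le x₂ α h₂ f hf i h z

theorem Chain.isPBlock {p : ℕ} {M : Ideal AlgInt} {α : Fˣ →* ℂˣ} {n : ℕ}
    {B : Set (IrrCharacter (GL (Fin n) F))} (h : Chain p M α n B) : IsPBlock M B := by
  cases h with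
  | zero χ hd hf => exact ⟨χ, rfl⟩
  | step K e z hz hz1 hzK hk hpk θ hθ hfix b₂ B hind h₂ => exact hind.2.1

theorem PPrime.comp {G H : Type*} [Group G] [Group H] {p : ℕ} {ζ : G →* ℂˣ} (hζ : PPrime p ζ)
    (f : H →* G) : PPrime p (ζ.comp f) := by
  obtain ⟨k, hk, hpk, h⟩ := hζ
  exact ⟨k, hk, hpk, fun g => h (f g)⟩

/-- **Lemma A.** -/
theorem lemmaA {p : ℕ} {M : Ideal AlgInt} [M.IsPrime] (hM : IsPModular p M)
    {α : Fˣ →* ℂˣ} (hα : PPrime p α) {B : Set (IrrCharacter (GL (Fin n) F))}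
    (h : Chain p M α n B) : ∃ x : GL (Fin n) F, Nz M (dch n α) B x := by
  induction h with
  | @zero n χ hd hf =>
    have hα' : PPrime p (dch n α) := hα.comp _
    exact Cfsg.Agent.H16.Sl.exists_nz_of_defect_zero' hM χ (fun hz hn => exists_nz hM hα' hz hn) hd hf
  | @step n m k K _ _ _ e z hz hz1 hzK hk hpk θ hθ hfix b₂ B hind h₂ ih =>
    have hpK : p ∣ Nat.card K - 1 := by
      obtain ⟨a, ha⟩ := hz
      have h1 : orderOf z ∣ Nat.card Kˣ := orderOf_dvd_natCard z
      rw [Nat.card_units] at h1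
      have h2 : a ≠ 0 := by
        rintro rfl
        rw [pow_zero, orderOf_eq_one_iff] at ha
        exact hz1 ha
      exact (dvd_pow_self p h2).trans (ha ▸ h1)
    have hα' : PPrime p (α.comp (nrm F K)) := hα.comp _
    obtain ⟨x₁, hx₁, x₂, hx₂, hu, hext⟩ := Cfsg.Agent.H1.Sl.exists_extremal_of
      (fun x y h => Cfsg.Agent.H987.Sl.isConj_of_kd x y h)
      {x : GL (Fin k) K | Nz M (dch k (α.comp (nrm F K))) (blockOf M (θ : GL (Fin k) K → ℂ)) x}
      {x : GL (Fin m) F | Nz M (dch m α) b₂ x}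
      (by
        obtain ⟨x, hx, hx'⟩ := exists_unipotent_nz hM hk hpK hpk hα' θ hθ hfix
        exact ⟨x, hx', hx⟩)
      ih
    have hjj1 := dch_jj_inl e α
    have hjj2 := dch_jj_inr e α
    have hα'' : PPrime p (dch n α) := hα.comp _
    refine ⟨jj e (x₁, x₂), nz_step hM hα'' (jj e) (jj_injective e) (jj e (scl k z, 1)) ?_
      (centralizer_jj e z hz1 hzK) ⟨θ, rfl⟩ h₂.isPBlock hind x₁ x₂ ?_ ?_ ?_ ?_⟩
    · obtain ⟨a, ha⟩ := hz
      have hp := hM.1
      have h1 : (jj e (scl k z, 1)) ^ p ^ a = 1 := by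
        have h2 : (scl k z) ^ p ^ a = 1 := by
          rw [scl, ← map_pow, ← ha, pow_orderOf_eq_one, map_one]
        rw [← map_pow, Prod.pow_mk, h2, one_pow]
        exact map_one _
      obtain ⟨b, _, hb⟩ := (Nat.dvd_prime_pow hp).1 (orderOf_dvd_of_pow_eq_one h1)
      exact ⟨b, hb⟩
    · rw [hjj1]; exact hx₁
    · rw [hjj2]; exact hx₂
    · exact centralizer_jj_le e α x₁ x₂ hu hx₁.1 hx₂.1
    · intro y₁ y₂ h₁ h₂ hc
      rw [hjj1] at h₁
      rw [hjj2] at h₂
      refine hext y₁ h₁ y₂ h₂ fun g => ?_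
      rw [← kd_jj e, ← kd_jj e]
      exact kd_conj hc g

end

end Cfsg.Agent.H624.Sl
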